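import Cfsg.Agent.Classical.Transv.Basic
import Mathlib

/-!
Transvection groups with a fixed centre acting on a coset space: elementary tools for the minimal index of a
subgroup of the special linear group.
-/

set_option autoImplicit false
set_option linter.unusedSectionVars false
set_option linter.style.haveILetI false

namespace Cfsg.Lib.Known.MinIndexSL

open Cfsg.Lib.Classical

variable {F : Type*} [Field F] {V : Type*} [AddCommGroup V] [Module F V]

local notation "GG" => slGroup F V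

variable (F) in
/-- The functionals vanishing on a vector. -/
abbrev axes (a : V) : Submodule F (Module.Dual F V) := (Submodule.span F ({a} : Set V)).dualAnnihilator

theorem mem_axes {a : V} {φ : Module.Dual F V} : φ ∈ axes F a ↔ φ a = 0 := by
  rw [Submodule.mem_dualAnnihilator]
  refine ⟨fun h => h a (Submodule.mem_span_singleton_self a), fun h w hw => ?_⟩
  obtain ⟨c, rfl⟩ := Submodule.mem_span_singleton.1 hw
  rw [map_smul, h, smul_zero]

/-- The transvection with centre `a` attached to an axis. -/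
noncomputable def tv (a : V) (φ : axes F a) : GG := slT φ.1 a (mem_axes.1 φ.2)

theorem tv_apply (a : V) (φ : axes F a) (x : V) : (tv a φ : V ≃ₗ[F] V) x = x + φ.1 x • a := slT_apply _ _ _ x

theorem tv_add (a : V) (φ ψ : axes F a) : tv a (φ + ψ) = tv a φ * tv a ψ :=
  slT_mul φ.1 ψ.1 a (mem_axes.1 φ.2) (mem_axes.1 ψ.2)

theorem tv_zero (a : V) : tv a (0 : axes F a) = 1 :=
  slGroup.ext' fun x => by rw [tv_apply]; simp

theorem tv_neg (a : V) (φ : axes F a) : tv a (-φ) = (tv a φ)⁻¹ :=
  eq_inv_of_mul_eq_one_left (by rw [← tv_add, show -φ + φ = 0 from Subtype.ext (by simp), tv_zero])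

theorem tv_inv_apply (a : V) (φ : axes F a) (x : V) :
    (((tv a φ)⁻¹ : GG) : V ≃ₗ[F] V) x = x - φ.1 x • a := by
  rw [← tv_neg, tv_apply]
  simp [sub_eq_add_neg]

theorem tv_eq_slT (a : V) (φ : axes F a) : tv a φ = slT φ.1 a (mem_axes.1 φ.2) := rfl

/-- Transport of an axis by an element fixing the centre. -/
noncomputable def move (a : V) (g : GG) (hg : (g : V ≃ₗ[F] V) a = a) (φ : axes F a) : axes F a :=
  ⟨φ.1 ∘ₗ ((g⁻¹ : GG) : V ≃ₗ[F] V).toLinearMap, mem_axes.2 (by
    have h : ((g⁻¹ : GG) : V ≃ₗ[F] V) a = a := by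
      conv_lhs => rw [← hg]
      exact slGroup.inv_apply_self g a
    show φ.1 (((g⁻¹ : GG) : V ≃ₗ[F] V) a) = 0
    rw [h]; exact mem_axes.1 φ.2)⟩

theorem tv_conj (a : V) (g : GG) (hg : (g : V ≃ₗ[F] V) a = a) (φ : axes F a) :
    g * tv a φ * g⁻¹ = tv a (move a g hg φ) := by
  rw [tv_eq_slT, slT_conj]
  exact slT_congr fun x => by rw [hg]; rfl

/-- A functional separating a vector from a span. -/
theorem exists_axis {s : Set V} {x : V} (hx : x ∉ Submodule.span F s) :
    ∃ φ : Module.Dual F V, φ x = 1 ∧ ∀ y ∈ s, φ y = 0 := by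
  obtain ⟨φ, h1, h2⟩ := exists_dual_vanish hx
  exact ⟨φ, h1, fun y hy => h2 y (Submodule.subset_span hy)⟩

theorem notMem_pair {v : V} (hv : v ≠ 0) {w : V} (hw : w ∉ Submodule.span F ({v} : Set V)) :
    v ∉ Submodule.span F ({w} : Set V) := fun h => by
  obtain ⟨c, hc⟩ := Submodule.mem_span_singleton.1 h
  rcases eq_or_ne c 0 with rfl | hc0
  · exact hv (by rw [← hc, zero_smul])
  · exact hw (Submodule.mem_span_singleton.2 ⟨c⁻¹, by rw [← hc, smul_smul, inv_mul_cancel₀ hc0, one_smul]⟩)

/-- A vector outside a span of few vectors. -/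
theorem exists_notMem [FiniteDimensional F V] {s : Finset V} (hs : s.card < Module.finrank F V) :
    ∃ x, x ∉ Submodule.span F (s : Set V) := by
  by_contra h
  push Not at h
  have htop : Submodule.span F (s : Set V) = ⊤ := Submodule.eq_top_iff'.2 h
  have h1 := finrank_span_finset_le_card (R := F) s
  rw [Set.finrank, htop, finrank_top] at h1
  omega

theorem exists_third [FiniteDimensional F V] (hn : 3 ≤ Module.finrank F V) (a b : V) :
    ∃ x, x ∉ Submodule.span F ({a, b} : Set V) := by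
  classical
  obtain ⟨x, hx⟩ := exists_notMem (F := F) (V := V) (s := {a, b}) (by
    have := Finset.card_le_two (a := a) (b := b)
    omega)
  exact ⟨x, by simpa using hx⟩

/-- Elements fixing a vector are transitive outside its line. -/
theorem trans_fix [FiniteDimensional F V] (hn : 3 ≤ Module.finrank F V) {a v w : V}
    (hv : v ∉ Submodule.span F ({a} : Set V)) (hw : w ∉ Submodule.span F ({a} : Set V)) :
    ∃ g : GG, (g : V ≃ₗ[F] V) a = a ∧ (g : V ≃ₗ[F] V) v = w := by
  have step : ∀ {v w : V}, w ∉ Submodule.span F ({a, v} : Set V) → v ∉ Submodule.span F ({a} : Set V) →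
      ∃ g : GG, (g : V ≃ₗ[F] V) a = a ∧ (g : V ≃ₗ[F] V) v = w := by
    intro v w hw hv
    have h : v ∉ Submodule.span F ({a, w - v} : Set V) := fun h => by
      obtain ⟨c, d, e⟩ := Submodule.mem_span_pair.1 h
      rcases eq_or_ne d 0 with rfl | hd
      · exact hv (Submodule.mem_span_singleton.2 ⟨c, by rw [← e, zero_smul, add_zero]⟩)
      · refine hw (Submodule.mem_span_pair.2 ⟨-(d⁻¹ * c), d⁻¹ + 1, ?_⟩)
        have e' : d • w = (1 + d) • v - c • a := by linear_combination (norm := module) e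
        calc (-(d⁻¹ * c)) • a + (d⁻¹ + 1) • v = d⁻¹ • ((1 + d) • v - c • a) := by
              match_scalars <;> field_simp
          _ = w := by rw [← e', smul_smul, inv_mul_cancel₀ hd, one_smul]
    obtain ⟨φ, h1, h2⟩ := exists_axis h
    refine ⟨slT φ (w - v) (h2 _ (by simp)), ?_, ?_⟩
    · rw [slT_apply, h2 a (by simp), zero_smul, add_zero]
    · rw [slT_apply, h1, one_smul, add_sub_cancel]
  by_cases h : w ∈ Submodule.span F ({a, v} : Set V)
  · obtain ⟨u, hu⟩ := exists_third hn a v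
    have hua : u ∉ Submodule.span F ({a} : Set V) := fun h' => hu (Submodule.span_mono (by simp) h')
    have hwu : w ∉ Submodule.span F ({a, u} : Set V) := fun h' => by
      obtain ⟨c, d, e⟩ := Submodule.mem_span_pair.1 h'
      rcases eq_or_ne d 0 with rfl | hd
      · exact hw (Submodule.mem_span_singleton.2 ⟨c, by rw [← e, zero_smul, add_zero]⟩)
      · refine hu ?_
        have : d • u ∈ Submodule.span F ({a, v} : Set V) := by
          rw [show d • u = w - c • a by rw [← e, add_sub_cancel_left]]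
          exact sub_mem h (Submodule.smul_mem _ _ (Submodule.subset_span (by simp)))
        exact (Submodule.smul_mem_iff _ hd).1 this
    obtain ⟨g, g1, g2⟩ := step hu hv
    obtain ⟨g', g1', g2'⟩ := step hwu hua
    exact ⟨g' * g, by rw [slGroup.mul_apply', g1, g1'], by rw [slGroup.mul_apply', g2, g2']⟩
  · exact step h hv

/-- The group is transitive on nonzero vectors. -/
theorem trans_vec [FiniteDimensional F V] (hn : 3 ≤ Module.finrank F V) {v w : V} (hv : v ≠ 0) (hw : w ≠ 0) :
    ∃ g : GG, (g : V ≃ₗ[F] V) v = w := by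
  obtain ⟨x, hx⟩ := exists_third hn v w
  have hxv : v ∉ Submodule.span F ({x} : Set V) :=
    notMem_pair hv fun h => hx (Submodule.span_mono (by simp) h)
  have hxw : w ∉ Submodule.span F ({x} : Set V) :=
    notMem_pair hw fun h => hx (Submodule.span_mono (by simp) h)
  obtain ⟨g, -, hg⟩ := trans_fix hn hxv hxw
  exact ⟨g, hg⟩

/-- The group is transitive on nonzero functionals. -/
theorem trans_dual [FiniteDimensional F V] (hn : 3 ≤ Module.finrank F V) {ψ ψ' : Module.Dual F V} (hψ : ψ ≠ 0)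
    (hψ' : ψ' ≠ 0) : ∃ g : GG, ∀ x, ψ' ((g : V ≃ₗ[F] V) x) = ψ x := by
  have step : ∀ {ψ ψ' : Module.Dual F V}, (∃ z, ψ z = 1 ∧ ψ' z = 1) →
      ∃ g : GG, ∀ x, ψ' ((g : V ≃ₗ[F] V) x) = ψ x := by
    rintro ψ ψ' ⟨z, h1, h2⟩
    refine ⟨slT (ψ - ψ') z (by simp [h1, h2]), fun x => ?_⟩
    rw [slT_apply, map_add, map_smul, h2, LinearMap.sub_apply, smul_eq_mul, mul_one, add_sub_cancel]
  obtain ⟨z, hz⟩ : ∃ z, ψ z ≠ 0 := by
    by_contra h; push Not at h; exact hψ (LinearMap.ext h)
  obtain ⟨z', hz'⟩ : ∃ z, ψ' z ≠ 0 := by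
    by_contra h; push Not at h; exact hψ' (LinearMap.ext h)
  by_cases hd : ∃ z, ψ z ≠ 0 ∧ ψ' z = 0
  · obtain ⟨y, hy, hy'⟩ := hd
    refine step ⟨(ψ' z')⁻¹ • z' + ((1 - ψ ((ψ' z')⁻¹ • z')) * (ψ y)⁻¹) • y, ?_, ?_⟩
    · rw [map_add, map_smul ψ ((1 - _) * _), smul_eq_mul, mul_assoc, inv_mul_cancel₀ hy, mul_one, add_sub_cancel]
    · rw [map_add, map_smul, map_smul, hy', smul_zero, add_zero, smul_eq_mul, inv_mul_cancel₀ hz']
  · push Not at hd
    -- go through a functional independent of both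
    obtain ⟨x, hx⟩ := exists_third (F := F) (V := Module.Dual F V) (by rw [Subspace.dual_finrank_eq]; exact hn) ψ ψ'
    have key : ∀ {ψ : Module.Dual F V}, ψ ≠ 0 → x ∉ Submodule.span F ({ψ} : Set (Module.Dual F V)) →
        ∃ z, ψ z = 1 ∧ x z = 1 := by
      intro ψ h0 hxs
      by_contra hno
      push Not at hno
      obtain ⟨y, hy⟩ : ∃ y, ψ y ≠ 0 := by
        by_contra h; push Not at h; exact h0 (LinearMap.ext h)
      refine hxs (Submodule.mem_span_singleton.2 ⟨(ψ y)⁻¹ * x y, LinearMap.ext fun v => ?_⟩)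
      have h1 : ∀ v, ψ v = 0 → x v = 0 := fun v hv => by
        by_contra hxv
        refine hno ((ψ y)⁻¹ • y + ((1 - x ((ψ y)⁻¹ • y)) * (x v)⁻¹) • v) ?_ ?_
        · rw [map_add, map_smul, map_smul, hv, smul_zero, add_zero, smul_eq_mul, inv_mul_cancel₀ hy]
        · rw [map_add, map_smul x ((1 - _) * _), smul_eq_mul, mul_assoc, inv_mul_cancel₀ hxv, mul_one, add_sub_cancel]
      have h2 := h1 (v - (ψ v * (ψ y)⁻¹) • y) (by
        rw [map_sub, map_smul, smul_eq_mul, mul_assoc, inv_mul_cancel₀ hy, mul_one, sub_self])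
      rw [map_sub, map_smul, smul_eq_mul, sub_eq_zero] at h2
      rw [LinearMap.smul_apply, smul_eq_mul, h2]
      ring
    obtain ⟨g, hg⟩ := step (key hψ fun h => hx (Submodule.span_mono (by simp) h))
    obtain ⟨z1, e1, e2⟩ := key hψ' fun h => hx (Submodule.span_mono (by simp) h)
    obtain ⟨g', hg'⟩ := step (ψ := x) (ψ' := ψ') ⟨z1, e2, e1⟩
    exact ⟨g' * g, fun v => by rw [slGroup.mul_apply', hg', hg]⟩

/-- The axes of transvections with centre `a` fixing a point. -/
def fixAx (a : V) {H : Subgroup GG} (x : GG ⧸ H) : AddSubgroup (axes F a) where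
  carrier := {φ | tv a φ • x = x}
  zero_mem' := by show tv a (0 : axes F a) • x = x; rw [tv_zero, one_smul]
  add_mem' := fun {φ ψ} hφ hψ => by
    show tv a (φ + ψ) • x = x
    rw [tv_add, mul_smul, show tv a ψ • x = x from hψ, show tv a φ • x = x from hφ]
  neg_mem' := fun {φ} hφ => by
    show tv a (-φ) • x = x
    rw [tv_neg, inv_smul_eq_iff]; exact (show tv a φ • x = x from hφ).symm

theorem mem_fixAx {a : V} {H : Subgroup GG} {x : GG ⧸ H} {φ : axes F a} : φ ∈ fixAx a x ↔ tv a φ • x = x :=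
  Iff.rfl

theorem mem_fixAx_one {a : V} {H : Subgroup GG} {φ : axes F a} :
    φ ∈ fixAx a ((1 : GG) : GG ⧸ H) ↔ tv a φ ∈ H := by
  rw [mem_fixAx, MulAction.Quotient.smul_mk, QuotientGroup.eq, smul_eq_mul, mul_one, mul_one]
  exact H.inv_mem_iff

theorem fixAx_move {a : V} {H : Subgroup GG} (g : GG) (hg : (g : V ≃ₗ[F] V) a = a) (x : GG ⧸ H) (φ : axes F a) :
    move a g hg φ ∈ fixAx a (g • x) ↔ φ ∈ fixAx a x := by
  rw [mem_fixAx, mem_fixAx, ← tv_conj a g hg, mul_smul, mul_smul, inv_smul_smul, smul_left_cancel_iff]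

/-- Constant along an orbit of the transvection group. -/
theorem fixAx_orbit {a : V} {H : Subgroup GG} (x : GG ⧸ H) (ψ : axes F a) : fixAx a (tv a ψ • x) = fixAx a x := by
  ext φ
  rw [mem_fixAx, mem_fixAx, ← mul_smul, ← tv_add, add_comm, tv_add, mul_smul, smul_left_cancel_iff]

/-- Orbits with prescribed representatives. -/
theorem sum_index_le [Finite F] [FiniteDimensional F V] (a : V) {H : Subgroup GG} {ι : Type*} [Fintype ι]
    (x : ι → GG ⧸ H) (hx : ∀ i j, i ≠ j → ∀ φ : axes F a, tv a φ • x i ≠ x j) :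
    ∑ i, (fixAx a (x i)).index ≤ H.index := by
  classical
  have : Finite V := Module.finite_of_finite F
  have : Finite GG := Finite.of_injective (fun g => ((g : V ≃ₗ[F] V) : V → V))
    fun g h e => slGroup.ext' (congrFun e)
  have hidx : ∀ i, (fixAx a (x i)).index = Nat.card (axes F a ⧸ fixAx a (x i)) := fun i => rfl
  have : Finite (Module.Dual F V) := Module.finite_of_finite F
  simp only [hidx]
  rw [← Nat.card_sigma, show H.index = Nat.card (GG ⧸ H) from rfl]
  let f : (Σ i, axes F a ⧸ fixAx a (x i)) → GG ⧸ H := fun s => tv a s.2.out • x s.1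
  refine Nat.card_le_card_of_injective f ?_
  rintro ⟨i, u⟩ ⟨j, v⟩ e
  have e' : tv a u.out • x i = tv a v.out • x j := e
  have hij : i = j := by
    by_contra h
    refine hx i j h (-v.out + u.out) ?_
    rw [tv_add, mul_smul, e', tv_neg, inv_smul_smul]
  subst hij
  have huv : u = v := by
    rw [← QuotientAddGroup.out_eq' u, ← QuotientAddGroup.out_eq' v, QuotientAddGroup.eq, mem_fixAx, tv_add,
      mul_smul, ← e', tv_neg, inv_smul_smul]
  subst huv
  rfl

end Cfsg.Lib.Known.MinIndexSL
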