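import Cfsg.Agent.Known.MinIndexSL.Basic

/-!
Fixed axis groups of a point of a coset space of small degree: they are trivial, everything, or cut out by one vector.
-/

set_option autoImplicit false
set_option linter.unusedSectionVars false
set_option linter.style.haveILetI false

namespace Cfsg.Lib.Known.MinIndexSL

open Cfsg.Lib.Classical

variable {F : Type*} [Field F] {V : Type*} [AddCommGroup V] [Module F V]

local notation "GG" => slGroup F V

/-- Vectors paired trivially with a group of axes. -/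
def perp (χ : AddChar F ℂ) (a : V) (K : AddSubgroup (axes F a)) : AddSubgroup V where
  carrier := {v | ∀ φ ∈ K, χ (φ.1 v) = 1}
  zero_mem' := fun φ _ => by simp [AddChar.map_zero_eq_one]
  add_mem' := fun {v w} hv hw φ hφ => by rw [map_add, AddChar.map_add_eq_mul, hv φ hφ, hw φ hφ, one_mul]
  neg_mem' := fun {v} hv φ hφ => by rw [map_neg, AddChar.map_neg_eq_inv, hv φ hφ, inv_one]

variable {χ : AddChar F ℂ}

theorem mem_perp {a : V} {K : AddSubgroup (axes F a)} {v : V} :
    v ∈ perp χ a K ↔ ∀ φ ∈ K, χ (φ.1 v) = 1 := Iff.rfl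

theorem line_le_perp {a : V} {K : AddSubgroup (axes F a)} {v : V} (hv : v ∈ Submodule.span F ({a} : Set V)) :
    v ∈ perp χ a K := fun φ _ => by
  obtain ⟨c, rfl⟩ := Submodule.mem_span_singleton.1 hv
  rw [map_smul, mem_axes.1 φ.2, smul_zero, AddChar.map_zero_eq_one]

theorem chi_sep (hχ : ∃ y, χ y ≠ 1) {z : F} (h : ∀ c : F, χ (c * z) = 1) : z = 0 := by
  by_contra hz
  obtain ⟨y, hy⟩ := hχ
  exact hy (by rw [← h (y * z⁻¹), mul_assoc, inv_mul_cancel₀ hz, mul_one])

/-- Evaluation at a vector as a character of the axis group. -/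
def evChar (χ : AddChar F ℂ) (a v : V) : AddChar (axes F a) ℂ where
  toFun φ := χ (φ.1 v)
  map_zero_eq_one' := by simp [AddChar.map_zero_eq_one]
  map_add_eq_mul' φ ψ := by simp [AddChar.map_add_eq_mul]

theorem evChar_eq (hχ : ∃ y, χ y ≠ 1) {a v w : V} (h : evChar χ a v = evChar χ a w) :
    v - w ∈ Submodule.span F ({a} : Set V) := by
  by_contra hm
  obtain ⟨φ, h1, h2⟩ := exists_axis (F := F) hm
  have hφ : φ ∈ axes F a := mem_axes.2 (h2 a rfl)
  refine one_ne_zero (chi_sep hχ (z := (1 : F)) fun c => ?_)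
  rw [mul_one]
  have e : evChar χ a v ⟨c • φ, Submodule.smul_mem _ c hφ⟩ = evChar χ a w ⟨c • φ, Submodule.smul_mem _ c hφ⟩ := by
    rw [h]
  change χ ((c • φ) v) = χ ((c • φ) w) at e
  have e2 : χ c * χ ((c • φ) w) = χ ((c • φ) v) := by
    rw [← AddChar.map_add_eq_mul]
    congr 1
    rw [map_sub] at h1
    simp only [LinearMap.smul_apply, smul_eq_mul]
    linear_combination (-c) * h1
  rw [e] at e2
  refine mul_right_cancel₀ (fun h0 => ?_) (e2.trans (one_mul _).symm)
  have := AddChar.map_add_eq_mul χ ((c • φ) w) (-((c • φ) w))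
  rw [add_neg_cancel, AddChar.map_zero_eq_one, h0, zero_mul] at this
  exact one_ne_zero this

section Finite

variable [Finite F] [FiniteDimensional F V]

theorem natCard_line {a : V} (ha : a ≠ 0) :
    Nat.card (Submodule.span F ({a} : Set V)) = Nat.card F := by
  rw [Module.natCard_eq_pow_finrank (K := F), finrank_span_singleton ha, pow_one]

theorem natCard_pair_le (a v : V) :
    Nat.card (Submodule.span F ({a, v} : Set V)) ≤ Nat.card F ^ 2 := by
  classical
  rw [Module.natCard_eq_pow_finrank (K := F)]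
  refine Nat.pow_le_pow_right Nat.card_pos ?_
  have h := finrank_span_finset_le_card (R := F) ({a, v} : Finset V)
  have h2 := Finset.card_le_two (a := a) (b := v)
  rw [Set.finrank, Finset.coe_pair] at h
  omega

theorem axes_card_eq {a : V} (ha : a ≠ 0) : Nat.card (axes F a) * Nat.card F = Nat.card V := by
  rw [Module.natCard_eq_pow_finrank (K := F) (V := axes F a), Module.natCard_eq_pow_finrank (K := F) (V := V),
    ← pow_succ]
  have h := Subspace.finrank_add_finrank_dualAnnihilator_eq (Submodule.span F ({a} : Set V))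
  rw [finrank_span_singleton ha] at h
  congr 1
  show Module.finrank F (Submodule.span F ({a} : Set V)).dualAnnihilator + 1 = _
  omega

/-- Every character of the axis group is an evaluation. -/
theorem evChar_surj (hχ : ∃ y, χ y ≠ 1) {a : V} (ha : a ≠ 0) : Function.Surjective (evChar χ a) := by
  classical
  have : Finite V := Module.finite_of_finite F
  have : Finite (Module.Dual F V) := Module.finite_of_finite F
  have := Fintype.ofFinite (axes F a)
  let L := (Submodule.span F ({a} : Set V))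
  let f : V ⧸ L → AddChar (axes F a) ℂ := fun u => evChar χ a u.out
  have hf : Function.Injective f := fun u w e => by
    rw [← Submodule.Quotient.mk_out u, ← Submodule.Quotient.mk_out w, Submodule.Quotient.eq]
    exact evChar_eq hχ e
  have hcard : Nat.card (AddChar (axes F a) ℂ) ≤ Nat.card (V ⧸ L) := by
    have h1 : Nat.card (AddChar (axes F a) ℂ) = Nat.card (axes F a) := by
      rw [Nat.card_eq_fintype_card, Nat.card_eq_fintype_card, AddChar.card_eq]
    rw [h1]
    have h2 := L.card_eq_card_quotient_mul_card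
    have h3 := axes_card_eq (F := F) ha
    have h4 : Nat.card L = Nat.card F := natCard_line ha
    rw [h4, ← h3] at h2
    refine le_of_eq (Nat.eq_of_mul_eq_mul_right (n := Nat.card (axes F a)) (Nat.card_pos (α := F)) ?_)
    rw [h2, mul_comm]
  intro ψ
  obtain ⟨u, hu⟩ := (hf.bijective_of_nat_card_le hcard).2 ψ
  exact ⟨u.out, hu⟩

theorem exists_perp_notMem (hχ : ∃ y, χ y ≠ 1) {a : V} (ha : a ≠ 0) {K : AddSubgroup (axes F a)} (hK : K ≠ ⊤) :
    ∃ v ∈ perp χ a K, v ∉ Submodule.span F ({a} : Set V) := by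
  classical
  have : Finite (Module.Dual F V) := Module.finite_of_finite F
  obtain ⟨φ, hφ⟩ : ∃ φ, φ ∉ K := by
    by_contra h; push Not at h; exact hK (eq_top_iff.2 fun x _ => h x)
  obtain ⟨ψ, hψ⟩ := AddChar.exists_apply_ne_zero.2
    (show (QuotientAddGroup.mk φ : axes F a ⧸ K) ≠ 0 from fun h => hφ ((QuotientAddGroup.eq_zero_iff φ).1 h))
  obtain ⟨v, hv⟩ := evChar_surj hχ ha (ψ.compAddMonoidHom (QuotientAddGroup.mk' K))
  have hv' : ∀ θ : axes F a, χ (θ.1 v) = ψ (QuotientAddGroup.mk θ) := fun θ => DFunLike.congr_fun hv θ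
  refine ⟨v, fun θ hθ => ?_, fun hva => hψ ?_⟩
  · rw [hv', (QuotientAddGroup.eq_zero_iff θ).2 hθ, AddChar.map_zero_eq_one]
  · obtain ⟨c, rfl⟩ := Submodule.mem_span_singleton.1 hva
    rw [← hv', map_smul, mem_axes.1 φ.2, smul_zero, AddChar.map_zero_eq_one]

theorem natCard_perp_le (hχ : ∃ y, χ y ≠ 1) {a : V} (ha : a ≠ 0) (K : AddSubgroup (axes F a)) :
    Nat.card (perp χ a K) ≤ Nat.card F * K.index := by
  classical
  have : Finite V := Module.finite_of_finite F
  have : Finite (Module.Dual F V) := Module.finite_of_finite F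
  have := Fintype.ofFinite (axes F a ⧸ K)
  let f : perp χ a K → AddChar (axes F a ⧸ K) ℂ := fun v =>
    AddChar.toAddMonoidHomEquiv.symm (QuotientAddGroup.lift K (AddChar.toAddMonoidHomEquiv (evChar χ a v.1))
      fun φ hφ => by
        rw [AddMonoidHom.mem_ker]
        exact congrArg Additive.ofMul (v.2 φ hφ))
  have hf : ∀ v w, f v = f w → v.1 - w.1 ∈ Submodule.span F ({a} : Set V) := fun v w e => by
    refine evChar_eq hχ (DFunLike.ext _ _ fun φ => ?_)
    exact DFunLike.congr_fun e (QuotientAddGroup.mk φ)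
  let s : AddChar (axes F a ⧸ K) ℂ → perp χ a K := Function.invFun f
  let g : perp χ a K → AddChar (axes F a ⧸ K) ℂ × Submodule.span F ({a} : Set V) := fun v =>
    (f v, ⟨v.1 - (s (f v)).1, hf _ _ (Function.invFun_eq ⟨v, rfl⟩).symm⟩)
  have hg : Function.Injective g := fun v w e => by
    have e1 : f v = f w := congrArg Prod.fst e
    have e2 : v.1 - (s (f v)).1 = w.1 - (s (f w)).1 := congrArg (fun z => (z.2 : V)) e
    rw [e1, sub_left_inj] at e2
    exact Subtype.ext e2
  refine (Nat.card_le_card_of_injective g hg).trans (le_of_eq ?_)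
  rw [Nat.card_prod, natCard_line ha, mul_comm, AddSubgroup.index,
    Nat.card_eq_fintype_card (α := AddChar (axes F a ⧸ K) ℂ),
    Nat.card_eq_fintype_card (α := axes F a ⧸ K), AddChar.card_eq]

theorem perp_move {a : V} {H : Subgroup GG} (g : GG) (hg : (g : V ≃ₗ[F] V) a = a) (x : GG ⧸ H) (v : V) :
    (g : V ≃ₗ[F] V) v ∈ perp χ a (fixAx a (g • x)) ↔ v ∈ perp χ a (fixAx a x) := by
  have hg' : ((g⁻¹ : GG) : V ≃ₗ[F] V) a = a := by
    conv_lhs => rw [← hg]
    exact slGroup.inv_apply_self g a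
  constructor
  · intro h φ hφ
    have := h _ ((fixAx_move g hg x φ).2 hφ)
    rwa [show (move a g hg φ).1 ((g : V ≃ₗ[F] V) v) = φ.1 v from
      congrArg φ.1 (slGroup.inv_apply_self g v)] at this
  · intro h φ hφ
    have h2 := (fixAx_move g⁻¹ hg' (g • x) φ).2 hφ
    rw [inv_smul_smul] at h2
    have := h _ h2
    rwa [show (move a g⁻¹ hg' φ).1 v = φ.1 ((g : V ≃ₗ[F] V) v) from by
      show φ.1 ((((g⁻¹)⁻¹ : GG) : V ≃ₗ[F] V).toLinearMap v) = _
      rw [inv_inv]; rfl] at this

/-- A subgroup kept by all stabilisers of its vectors contains their planes or lies in one. -/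
theorem perp_rigid [Finite F] {a : V} (W : AddSubgroup V)
    (hfix : ∀ g : GG, (g : V ≃ₗ[F] V) a = a → ∀ v ∈ W, v ∉ Submodule.span F ({a} : Set V) →
      (g : V ≃ₗ[F] V) v = v → ∀ w ∈ W, (g : V ≃ₗ[F] V) w ∈ W)
    (hW : ∃ y, y ∉ W) {v : V} (hv : v ∈ W) (hva : v ∉ Submodule.span F ({a} : Set V)) {w : V} (hw : w ∈ W) :
    w ∈ Submodule.span F ({a, v} : Set V) := by
  by_contra hwp
  have key : ∀ {v w : V}, v ∈ W → v ∉ Submodule.span F ({a} : Set V) → w ∈ W →
      w ∉ Submodule.span F ({a, v} : Set V) → ∀ z ∈ Submodule.span F ({a, v} : Set V), z ∈ W := by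
    intro v w hv hva hw hwp z hz
    obtain ⟨φ, h1, h2⟩ := exists_axis hwp
    have hφz : φ z = 0 := by
      obtain ⟨c, d, rfl⟩ := Submodule.mem_span_pair.1 hz
      rw [map_add, map_smul, map_smul, h2 a (by simp), h2 v (by simp), smul_zero, smul_zero, add_zero]
    have hm := hfix (slT φ z hφz) (by rw [slT_apply, h2 a (by simp), zero_smul, add_zero]) v hv hva
      (by rw [slT_apply, h2 v (by simp), zero_smul, add_zero]) w hw
    rw [slT_apply, h1, one_smul] at hm
    simpa using W.sub_mem hm hw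
  have hwa : w ∉ Submodule.span F ({a} : Set V) := fun h => hwp (Submodule.span_mono (by simp) h)
  have hvp : v ∉ Submodule.span F ({a, w} : Set V) := fun h => by
    obtain ⟨c, d, e⟩ := Submodule.mem_span_pair.1 h
    rcases eq_or_ne d 0 with rfl | hd
    · exact hva (Submodule.mem_span_singleton.2 ⟨c, by rw [← e, zero_smul, add_zero]⟩)
    · refine hwp (Submodule.mem_span_pair.2 ⟨-(d⁻¹ * c), d⁻¹, ?_⟩)
      rw [← e]
      match_scalars <;> field_simp <;> ring
  have P1 := key hv hva hw hwp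
  have P2 := key hw hwa hv hvp
  obtain ⟨y, hy⟩ := hW
  by_cases hyp : y ∈ Submodule.span F ({a, v, w} : Set V)
  · obtain ⟨c, z, hz, rfl⟩ := Submodule.mem_span_insert.1 hyp
    obtain ⟨d, e, rfl⟩ := Submodule.mem_span_pair.1 hz
    refine hy (W.add_mem (P1 _ (Submodule.smul_mem _ _ (Submodule.subset_span (by simp)))) ?_)
    exact W.add_mem (P1 _ (Submodule.smul_mem _ _ (Submodule.subset_span (by simp))))
      (P2 _ (Submodule.smul_mem _ _ (Submodule.subset_span (by simp))))
  · have hwy : w ∉ Submodule.span F ({a, v, y - w} : Set V) := fun h => by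
      obtain ⟨c, z, hz, he⟩ := Submodule.mem_span_insert.1 h
      obtain ⟨d, e, rfl⟩ := Submodule.mem_span_pair.1 hz
      rcases eq_or_ne e 0 with rfl | he0
      · exact hwp (Submodule.mem_span_pair.2 ⟨c, d, by rw [he, zero_smul, add_zero]⟩)
      · refine hyp ?_
        have : e • y ∈ Submodule.span F ({a, v, w} : Set V) := by
          rw [show e • y = (1 + e) • w + (-c) • a + (-d) • v by linear_combination (norm := module) -he]
          refine add_mem (add_mem ?_ ?_) ?_ <;> exact Submodule.smul_mem _ _ (Submodule.subset_span (by simp))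
        exact (Submodule.smul_mem_iff _ he0).1 this
    obtain ⟨φ, h1, h2⟩ := exists_axis hwy
    have hm := hfix (slT φ (y - w) (h2 _ (by simp))) (by rw [slT_apply, h2 a (by simp), zero_smul, add_zero]) v hv hva
      (by rw [slT_apply, h2 v (by simp), zero_smul, add_zero]) w hw
    rw [slT_apply, h1, one_smul, add_sub_cancel] at hm
    exact hy hm

/-- Counting when the members of the family are disjoint. -/
theorem count_one {q ρ t k D S d T : ℕ} (hρ0 : 1 ≤ ρ) (hρ : q = ρ + 1) (hD : D + q = q * (t * ρ + 1))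
    (hT : T = D + q * k) (hle : T ≤ k * (q * q)) (h1 : T ≤ q * S) (h2 : S ≤ d)
    (hd : d * ρ + 1 < q * (t * ρ + 1)) :
    k = t ∧ d = t * ρ + t ∧ S = d ∧ T = q * S ∧ T = k * (q * q) := by
  have hq : 0 < q := by omega
  have hD' : D = q * (t * ρ) := by rw [mul_add, mul_one] at hD; omega
  subst hT hD'
  have e1 : q * (t * ρ + k) ≤ q * (k * q) := by rw [mul_add]; refine hle.trans_eq ?_; ring
  have e1' : t * ρ + k ≤ k * q := Nat.le_of_mul_le_mul_left e1 hq
  have hkt : t ≤ k := by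
    rw [hρ, mul_add, mul_one] at e1'
    exact Nat.le_of_mul_le_mul_right (by omega : t * ρ ≤ k * ρ) (by omega)
  have e2 : t * ρ + k ≤ S := Nat.le_of_mul_le_mul_left ((mul_add q _ _).trans_le h1) hq
  have hlt : d ≤ t * ρ + t := by
    by_contra h
    push Not at h
    have e3 : q * (t * ρ + 1) = ρ * (t * ρ + 1) + (t * ρ + 1) := by rw [hρ]; ring
    have e4 : (t * ρ + t + 1) * ρ ≤ d * ρ := Nat.mul_le_mul_right ρ h
    have e5 : (t * ρ + t + 1) * ρ + 1 = ρ * (t * ρ + 1) + (t * ρ + 1) := by ring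
    omega
  have hk : k = t := by omega
  refine ⟨hk, by omega, by omega, ?_, ?_⟩
  · rw [show S = t * ρ + k by omega]; ring
  · rw [hk, hρ]; ring

/-- Counting when some vector is in two members. -/
theorem count_two {q e k D S d T : ℕ} (hq : 2 ≤ q) (hD : D + q = q * e) (hk : 2 ≤ k) (hT : 2 * D + q * k ≤ T)
    (h1 : T ≤ q * S) (h2 : S ≤ d) (hd : d * (q - 1) + 1 < q * e) : False := by
  have hk' : q * 2 ≤ q * k := Nat.mul_le_mul_left q hk
  have e2 : 2 * e ≤ S := Nat.le_of_mul_le_mul_left (by rw [mul_left_comm]; omega : q * (2 * e) ≤ q * S) (by omega)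
  obtain ⟨ρ, rfl⟩ : ∃ ρ, q = ρ + 2 := ⟨q - 2, by omega⟩
  rw [show ρ + 2 - 1 = ρ + 1 by omega] at hd
  have e3 : 2 * e * (ρ + 1) ≤ d * (ρ + 1) := Nat.mul_le_mul_right _ (by omega)
  have e4 : 2 * e * (ρ + 1) = (ρ + 2) * e + ρ * e := by ring
  omega

/-- A group of axes that is neither trivial nor everything forces all of them to be cut out by a vector. -/
theorem family_eq (hn : 3 ≤ Module.finrank F V) {a : V} (ha : a ≠ 0) {H : Subgroup GG}
    (hd : H.index * (Nat.card F - 1) + 1 < Nat.card F ^ Module.finrank F V) {x : GG ⧸ H}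
    (h0 : fixAx a x ≠ ⊥) (h1 : fixAx a x ≠ ⊤) (y : GG ⧸ H) :
    ∃ v, v ∉ Submodule.span F ({a} : Set V) ∧ ∀ φ : axes F a, φ ∈ fixAx a y ↔ φ.1 v = 0 := by
  classical
  have : Finite V := Module.finite_of_finite F
  have : Finite (Module.Dual F V) := Module.finite_of_finite F
  have := Fintype.ofFinite V
  have : Finite GG := Finite.of_injective (fun g => ((g : V ≃ₗ[F] V) : V → V))
    fun g h e => slGroup.ext' (congrFun e)
  have := Fintype.ofFinite {g : GG // (g : V ≃ₗ[F] V) a = a}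
  obtain ⟨χ, hχ1⟩ := AddChar.exists_apply_ne_zero.2 (one_ne_zero : (1 : F) ≠ 0)
  have hχ : ∃ y, χ y ≠ 1 := ⟨1, hχ1⟩
  set L := Submodule.span F ({a} : Set V) with hLdef
  let P : {g : GG // (g : V ≃ₗ[F] V) a = a} → AddSubgroup V := fun g => perp χ a (fixAx a (g.1 • x))
  let 𝒲 : Finset (AddSubgroup V) := Finset.univ.image P
  let D : Finset V := Finset.univ.filter (· ∉ L)
  have hmem : ∀ W, W ∈ 𝒲 ↔ ∃ g, P g = W := fun W => by simp [𝒲]
  obtain ⟨v0, hv0, hv0a⟩ := exists_perp_notMem hχ ha h1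
  obtain ⟨y0, hy0⟩ : ∃ y0, y0 ∉ perp χ a (fixAx a x) := by
    obtain ⟨φ, hφ, hφ0⟩ : ∃ φ ∈ fixAx a x, φ ≠ 0 := by
      by_contra h; push Not at h; exact h0 (eq_bot_iff.2 fun φ hφ => AddSubgroup.mem_bot.2 (h φ hφ))
    obtain ⟨z, hz⟩ : ∃ z, φ.1 z ≠ 0 := by
      by_contra h; push Not at h; exact hφ0 (Subtype.ext (LinearMap.ext h))
    obtain ⟨c, hc⟩ := hχ
    refine ⟨(c * (φ.1 z)⁻¹) • z, fun h => hc ?_⟩
    have := h φ hφ
    rwa [map_smul, smul_eq_mul, mul_assoc, inv_mul_cancel₀ hz, mul_one] at this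
  have hfixL : ∀ (g : GG), (g : V ≃ₗ[F] V) a = a → ∀ v, (g : V ≃ₗ[F] V) v ∈ L → v ∈ L := by
    intro g hg v hv
    obtain ⟨c, hc⟩ := Submodule.mem_span_singleton.1 hv
    refine Submodule.mem_span_singleton.2 ⟨c, (g : V ≃ₗ[F] V).injective ?_⟩
    rw [map_smul, hg, hc]
  have htrans : ∀ (h : GG) (hh : (h : V ≃ₗ[F] V) a = a) (W) (hW : W ∈ 𝒲), ∃ W' ∈ 𝒲,
      ∀ v, (h : V ≃ₗ[F] V) v ∈ W' ↔ v ∈ W := by
    intro h hh W hW
    obtain ⟨g, rfl⟩ := (hmem W).1 hW
    refine ⟨_, (hmem _).2 ⟨⟨h * g.1, by rw [slGroup.mul_apply', g.2, hh]⟩, rfl⟩, fun v => ?_⟩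
    show (h : V ≃ₗ[F] V) v ∈ perp χ a (fixAx a ((h * g.1) • x)) ↔ _
    rw [mul_smul, perp_move h hh]
  have hcover : ∀ v ∈ D, ∃ W ∈ 𝒲, v ∈ W := by
    intro v hv
    obtain ⟨g, hga, hgv⟩ := trans_fix hn hv0a (Finset.mem_filter.1 hv).2
    exact ⟨_, (hmem _).2 ⟨⟨g, hga⟩, rfl⟩, by rw [← hgv]; exact (perp_move g hga x v0).2 hv0⟩
  have hproper : ∀ W ∈ 𝒲, (∃ v ∈ W, v ∉ L) ∧ ∃ z, z ∉ W := by
    intro W hW
    obtain ⟨g, rfl⟩ := (hmem W).1 hW
    exact ⟨⟨_, (perp_move g.1 g.2 x v0).2 hv0, fun h => hv0a (hfixL g.1 g.2 _ h)⟩,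
      ⟨_, fun h => hy0 ((perp_move g.1 g.2 x y0).1 h)⟩⟩
  have hrep : ∀ W : 𝒲, ∃ g, P g = W.1 := fun W => (hmem _).1 W.2
  choose rep hrep using hrep
  let r : 𝒲 → GG ⧸ H := fun W => (rep W).1 • x
  have hr : ∀ W : 𝒲, perp χ a (fixAx a (r W)) = W.1 := hrep
  have hrdisj : ∀ i j, i ≠ j → ∀ φ : axes F a, tv a φ • r i ≠ r j := fun i j hij φ e =>
    hij (Subtype.ext (by rw [← hr i, ← hr j, ← e, fixAx_orbit]))
  set q := Nat.card F with hq
  set n := Module.finrank F V with hn'
  have hq2 : 2 ≤ q := Finite.one_lt_card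
  have hV : (Finset.univ : Finset V).card = q ^ n := by
    rw [Finset.card_univ, ← Nat.card_eq_fintype_card, Module.natCard_eq_pow_finrank (K := F)]
  have hLc : (Finset.univ.filter (· ∈ L)).card = q := by
    rw [← Fintype.card_subtype, ← Nat.card_eq_fintype_card]
    exact natCard_line ha
  have hD : D.card + q = q ^ n := by
    rw [← hV, ← hLc, add_comm]
    exact Finset.card_filter_add_card_filter_not _
  have hsplit : ∀ W ∈ 𝒲, (D.filter (· ∈ W)).card + q = Nat.card W := by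
    intro W hW
    obtain ⟨g, rfl⟩ := (hmem W).1 hW
    rw [Nat.card_eq_fintype_card, Fintype.card_subtype,
      ← Finset.card_filter_add_card_filter_not (s := Finset.univ.filter (· ∈ P g)) (· ∈ L), ← hLc, add_comm,
      Finset.filter_filter, Finset.filter_filter, Finset.filter_filter]
    congr 2
    · exact Finset.filter_congr fun v _ => ⟨fun h => ⟨line_le_perp h, h⟩, fun h => h.2⟩
    · exact Finset.filter_congr fun v _ => and_comm
  have hdouble : ∑ W ∈ 𝒲, (D.filter (· ∈ W)).card = ∑ v ∈ D, (𝒲.filter (v ∈ ·)).card := by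
    simp only [Finset.card_filter]
    exact Finset.sum_comm
  have hsumW : ∑ W ∈ 𝒲, Nat.card W = (∑ v ∈ D, (𝒲.filter (v ∈ ·)).card) + q * 𝒲.card := by
    rw [← hdouble, ← Finset.sum_congr rfl hsplit, Finset.sum_add_distrib, Finset.sum_const, smul_eq_mul, mul_comm]
  have hidx : ∀ W : 𝒲, Nat.card W.1 ≤ q * (fixAx a (r W)).index := fun W => by
    conv_lhs => rw [← hr W]
    exact natCard_perp_le hχ ha _
  have hsum1 : ∑ W ∈ 𝒲, Nat.card W ≤ q * ∑ W : 𝒲, (fixAx a (r W)).index := by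
    rw [Finset.mul_sum, ← Finset.sum_coe_sort 𝒲 (fun W => Nat.card W)]
    exact Finset.sum_le_sum fun W _ => hidx W
  have hsum2 : ∑ W : 𝒲, (fixAx a (r W)).index ≤ H.index := sum_index_le a r hrdisj
  set S := ∑ W : 𝒲, (fixAx a (r W)).index with hS
  obtain ⟨e, he⟩ : ∃ e, n = e + 1 := ⟨n - 1, by omega⟩
  obtain ⟨t, ht⟩ : ∃ t, q ^ e = t * (q - 1) + 1 := by
    obtain ⟨t, ht⟩ := Nat.sub_dvd_pow_sub_pow q 1 e
    rw [one_pow] at ht
    refine ⟨t, ?_⟩
    have : 1 ≤ q ^ e := Nat.one_le_pow _ _ (by omega)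
    rw [mul_comm t]; omega
  obtain ⟨ρ, hρ⟩ : ∃ ρ, q = ρ + 1 := ⟨q - 1, by omega⟩
  have hρ0 : 1 ≤ ρ := by omega
  have hqn : q ^ n = q * q ^ e := by rw [he, pow_succ, mul_comm]
  rw [show q - 1 = ρ by omega] at hd ht
  rw [hqn] at hd hD hV
  -- two members through one vector are equal
  have huniq : ∀ v ∈ D, ∀ W1 ∈ 𝒲, ∀ W2 ∈ 𝒲, v ∈ W1 → v ∈ W2 → W1 = W2 := by
    by_contra hne
    push Not at hne
    obtain ⟨v, hv, W1, hW1, W2, hW2, h1', h2', hne⟩ := hne
    have h2card : ∀ w ∈ D, 2 ≤ (𝒲.filter (w ∈ ·)).card := by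
      intro w hw
      obtain ⟨g, hga, hgv⟩ := trans_fix hn (Finset.mem_filter.1 hv).2 (Finset.mem_filter.1 hw).2
      obtain ⟨W1', hW1', e1⟩ := htrans g hga W1 hW1
      obtain ⟨W2', hW2', e2⟩ := htrans g hga W2 hW2
      refine Finset.one_lt_card.2 ⟨W1', Finset.mem_filter.2 ⟨hW1', hgv ▸ (e1 v).2 h1'⟩, W2',
        Finset.mem_filter.2 ⟨hW2', hgv ▸ (e2 v).2 h2'⟩, fun h => hne ?_⟩
      ext u
      rw [← e1, h, e2]
    have hk : 2 ≤ 𝒲.card := Finset.one_lt_card.2 ⟨W1, hW1, W2, hW2, hne⟩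
    have hge : 2 * D.card ≤ ∑ v ∈ D, (𝒲.filter (v ∈ ·)).card := by
      rw [mul_comm, ← smul_eq_mul]
      exact Finset.card_nsmul_le_sum _ _ _ h2card
    exact count_two hq2 hD hk (by rw [hsumW]; omega) hsum1 hsum2 (by rw [show q - 1 = ρ by omega]; exact hd)
  have hone : ∀ v ∈ D, (𝒲.filter (v ∈ ·)).card = 1 := fun v hv => by
    refine le_antisymm (Finset.card_le_one.2 fun W1 h1 W2 h2 => ?_) (Finset.card_pos.2 ?_)
    · rw [Finset.mem_filter] at h1 h2
      exact huniq v hv W1 h1.1 W2 h2.1 h1.2 h2.2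
    · obtain ⟨W, hW, hvW⟩ := hcover v hv
      exact ⟨W, Finset.mem_filter.2 ⟨hW, hvW⟩⟩
  have hplane : ∀ W ∈ 𝒲, ∀ v ∈ W, v ∉ L → ∀ w ∈ W, w ∈ Submodule.span F ({a, v} : Set V) := by
    intro W hW v hv hvL w hw
    refine perp_rigid (F := F) W (fun g hga u hu huL hgu w hw => ?_) (hproper W hW).2 hv hvL hw
    obtain ⟨W', hW', e1⟩ := htrans g hga W hW
    have hu' : u ∈ W' := by rw [← hgu]; exact (e1 u).2 hu
    rw [← huniq u (Finset.mem_filter.2 ⟨Finset.mem_univ _, huL⟩) W' hW' W hW hu' hu]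
    exact (e1 w).2 hw
  have hle2 : ∀ W ∈ 𝒲, Nat.card W ≤ q * q := by
    intro W hW
    obtain ⟨v, hv, hvL⟩ := (hproper W hW).1
    rw [← pow_two]
    refine le_trans ?_ (natCard_pair_le (F := F) a v)
    exact Nat.card_le_card_of_injective (fun w => ⟨w.1, hplane W hW v hv hvL w.1 w.2⟩)
      fun w w' e => Subtype.ext (congrArg Subtype.val e :)
  rw [Finset.sum_congr rfl hone, Finset.sum_const, smul_eq_mul, mul_one] at hsumW
  set k := 𝒲.card with hk
  have hWle : ∑ W ∈ 𝒲, Nat.card W ≤ k * (q * q) := by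
    rw [← smul_eq_mul]; exact Finset.sum_le_card_nsmul _ _ _ hle2
  -- forced equalities
  obtain ⟨hkt', hdt, hSeq, hWsum, hWtot⟩ := count_one hρ0 hρ (by rw [hD, ht]) hsumW hWle hsum1 hsum2
    (by rw [← ht]; exact hd)
  have hWall : ∀ W ∈ 𝒲, Nat.card W = q * q := by
    refine (Finset.sum_eq_sum_iff_of_le hle2).1 ?_
    rw [Finset.sum_const, smul_eq_mul, ← hk]
    exact hWtot
  have hidxq : ∀ W : 𝒲, (fixAx a (r W)).index = q := by
    intro W
    have hall : ∀ i : 𝒲, q * (fixAx a (r i)).index = Nat.card i.1 := by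
      refine fun i => ((Finset.sum_eq_sum_iff_of_le fun i _ => hidx i).1 ?_ i (Finset.mem_univ _)).symm
      rw [← Finset.mul_sum, Finset.sum_coe_sort 𝒲 (fun W => Nat.card W), hWsum]
    have := hall W
    rw [hWall _ W.2] at this
    exact Nat.eq_of_mul_eq_mul_left (by omega) this
  obtain ⟨W, φ, hW⟩ : ∃ W φ, tv a φ • r W = y := by
    by_contra h
    push Not at h
    have hs := sum_index_le a (fun o : Option 𝒲 => o.elim y r) (by
      rintro (_ | i) (_ | j) hij φ e
      · exact hij rfl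
      · refine h j (-φ) ?_
        rw [tv_neg, inv_smul_eq_iff]; exact e.symm
      · exact h i φ e
      · exact hrdisj i j (fun h => hij (congrArg some h)) φ e)
    rw [Fintype.sum_option] at hs
    have : (fixAx a y).index ≠ 0 := AddSubgroup.index_ne_zero_of_finite
    simp only [Option.elim_none, Option.elim_some] at hs
    omega
  obtain ⟨v, hv, hvL⟩ := (hproper W.1 W.2).1
  refine ⟨v, hvL, ?_⟩
  rw [← hW, fixAx_orbit]
  have hfull : ∀ c : F, c • v ∈ W.1 := by
    have himg : (Finset.univ.filter (· ∈ W.1)) = Finset.univ.filter (· ∈ Submodule.span F ({a, v} : Set V)) := by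
      refine Finset.eq_of_subset_of_card_le (fun z hz => ?_) ?_
      · rw [Finset.mem_filter] at hz ⊢
        exact ⟨hz.1, hplane _ W.2 v hv hvL z hz.2⟩
      · rw [← Fintype.card_subtype, ← Fintype.card_subtype, ← Nat.card_eq_fintype_card, ← Nat.card_eq_fintype_card]
        refine (natCard_pair_le a v).trans ?_
        rw [pow_two]
        exact (hWall _ W.2).ge
    intro c
    have hc : c • v ∈ Finset.univ.filter (· ∈ W.1) := by
      rw [himg, Finset.mem_filter]
      exact ⟨Finset.mem_univ _, Submodule.smul_mem _ _ (Submodule.subset_span (by simp))⟩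
    exact (Finset.mem_filter.1 hc).2
  let ev : axes F a →+ F :=
    { toFun := fun φ => φ.1 v, map_zero' := by simp, map_add' := fun φ ψ => by simp }
  have hle : fixAx a (r W) ≤ ev.ker := fun φ hφ => by
    refine chi_sep hχ fun c => ?_
    have := hfull c
    rw [← hr W] at this
    have := this φ hφ
    rwa [map_smul, smul_eq_mul] at this
  have hsurj : Function.Surjective ev := fun c => by
    obtain ⟨φ, e1, e2⟩ := exists_axis hvL
    exact ⟨⟨c • φ, Submodule.smul_mem _ c (mem_axes.2 (e2 a rfl))⟩, by simp [ev, e1]⟩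
  have hkidx : ev.ker.index = q := by
    rw [AddSubgroup.index_ker, AddMonoidHom.range_eq_top.2 hsurj, AddSubgroup.card_top]
  have heq : fixAx a (r W) = ev.ker := by
    refine AddSubgroup.eq_of_le_of_card_ge hle (le_of_eq ?_)
    have e1 := (fixAx a (r W)).card_mul_index
    rw [← ev.ker.card_mul_index, hidxq, hkidx] at e1
    exact (Nat.eq_of_mul_eq_mul_right (by omega) e1).symm
  intro φ
  rw [heq]
  exact AddMonoidHom.mem_ker

end Finite

end Cfsg.Lib.Known.MinIndexSL
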