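import Cfsg.Agent.Known.MinIndexSL.Family

/-!
Subgroups of small index in the special linear group contain no transvection.
-/

set_option autoImplicit false
set_option linter.unusedSectionVars false
set_option linter.style.haveILetI false

namespace Cfsg.Lib.Known.MinIndexSL

open Cfsg.Lib.Classical

variable {F : Type*} [Field F] {V : Type*} [AddCommGroup V] [Module F V]

local notation "GG" => slGroup F V

theorem pair_eq [FiniteDimensional F V] {a v x y : V} (hx : x ∈ Submodule.span F ({a, v} : Set V))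
    (hy : y ∈ Submodule.span F ({a, v} : Set V)) (hx0 : x ≠ 0) (hyx : y ∉ Submodule.span F ({x} : Set V)) :
    Submodule.span F ({x, y} : Set V) = Submodule.span F ({a, v} : Set V) := by
  classical
  refine Submodule.eq_of_le_of_finrank_le (Submodule.span_le.2 ?_) ?_
  · rintro z (rfl | rfl)
    exacts [hx, hy]
  · have h1 := finrank_span_finset_le_card (R := F) ({a, v} : Finset V)
    have h2 := Finset.card_le_two (a := a) (b := v)
    rw [Set.finrank, Finset.coe_pair] at h1
    have h3 : Submodule.span F ({x} : Set V) < Submodule.span F ({x, y} : Set V) :=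
      lt_of_le_of_ne (Submodule.span_mono (by simp)) fun h => hyx (h ▸ Submodule.subset_span (by simp))
    have h4 := Submodule.finrank_lt_finrank_of_lt h3
    rw [finrank_span_singleton hx0] at h4
    omega

theorem mem_H_conj {H : Subgroup GG} {g : GG} (hg : g ∈ H) (φ : Module.Dual F V) (v : V) (h : φ v = 0)
    (hm : slT φ v h ∈ H) :
    slT (φ ∘ₗ ((g⁻¹ : GG) : V ≃ₗ[F] V).toLinearMap) ((g : V ≃ₗ[F] V) v)
      (by show φ (((g⁻¹ : GG) : V ≃ₗ[F] V) ((g : V ≃ₗ[F] V) v)) = 0
          rw [slGroup.inv_apply_self]; exact h) ∈ H := by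
  rw [← slT_conj g φ v h]
  exact H.mul_mem (H.mul_mem hg hm) (H.inv_mem hg)

theorem slT_inv_apply (φ : Module.Dual F V) (v : V) (h : φ v = 0) (x : V) :
    (((slT φ v h)⁻¹ : GG) : V ≃ₗ[F] V) x = x - φ x • v := by
  apply (slT φ v h : V ≃ₗ[F] V).injective
  rw [slGroup.apply_inv_self, slT_apply, map_sub, map_smul, h, smul_zero, sub_zero, sub_add_cancel]

section Finite

variable [Finite F] [FiniteDimensional F V]

/-- The fixed axes of a small coset space are all or nothing. -/
theorem fixAx_trivial (hn : 3 ≤ Module.finrank F V) {H : Subgroup GG}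
    (hd : H.index * (Nat.card F - 1) + 1 < Nat.card F ^ Module.finrank F V) {a : V} (ha : a ≠ 0)
    (x : GG ⧸ H) : fixAx a x = ⊥ ∨ fixAx a x = ⊤ := by
  classical
  by_contra hne
  push Not at hne
  obtain ⟨h0, h1⟩ := hne
  -- every centre carries such a point
  have hall : ∀ b : V, ∃ v, b ≠ 0 → v ∉ Submodule.span F ({b} : Set V) ∧
      ∀ (φ : Module.Dual F V) (h : φ b = 0), slT φ b h ∈ H ↔ φ v = 0 := by
    intro b
    by_cases hb : b = 0
    · exact ⟨0, fun h => absurd hb h⟩
    obtain ⟨g, hg⟩ := trans_vec hn ha hb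
    subst hg
    have hmap : ∀ φ : axes F a, ∃ ψ : axes F ((g : V ≃ₗ[F] V) a),
        ψ.1 = φ.1 ∘ₗ ((g⁻¹ : GG) : V ≃ₗ[F] V).toLinearMap ∧
        (ψ ∈ fixAx _ (g • x) ↔ φ ∈ fixAx a x) := by
      intro φ
      refine ⟨⟨φ.1 ∘ₗ ((g⁻¹ : GG) : V ≃ₗ[F] V).toLinearMap, mem_axes.2 (by
        show φ.1 (((g⁻¹ : GG) : V ≃ₗ[F] V) ((g : V ≃ₗ[F] V) a)) = 0
        rw [slGroup.inv_apply_self]; exact mem_axes.1 φ.2)⟩, rfl, ?_⟩
      have e := slT_conj g φ.1 a (mem_axes.1 φ.2)
      rw [mem_fixAx, mem_fixAx]
      change slT _ _ _ • g • x = g • x ↔ _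
      rw [← e, mul_smul, mul_smul, inv_smul_smul, smul_left_cancel_iff]
      rfl
    obtain ⟨φ1, hφ1, hφ10⟩ : ∃ φ ∈ fixAx a x, φ ≠ 0 := by
      by_contra h; push Not at h; exact h0 (eq_bot_iff.2 fun φ hφ => AddSubgroup.mem_bot.2 (h φ hφ))
    obtain ⟨φ2, hφ2⟩ : ∃ φ, φ ∉ fixAx a x := by
      by_contra h; push Not at h; exact h1 (eq_top_iff.2 fun φ _ => h φ)
    obtain ⟨v, hv, hv'⟩ := family_eq hn hb hd (x := g • x) (fun h => by
        obtain ⟨ψ, e1, e2⟩ := hmap φ1
        have := e2.2 hφ1
        rw [h, AddSubgroup.mem_bot] at this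
        rw [this] at e1
        refine hφ10 (Subtype.ext (LinearMap.ext fun z => ?_))
        have := LinearMap.congr_fun e1.symm ((g : V ≃ₗ[F] V) z)
        simpa [slGroup.inv_apply_self] using this)
      (fun h => by
        obtain ⟨ψ, e1, e2⟩ := hmap φ2
        exact hφ2 (e2.1 (h ▸ AddSubgroup.mem_top ψ))) ((1 : GG) : GG ⧸ H)
    exact ⟨v, fun _ => ⟨hv, fun φ h => mem_fixAx_one.symm.trans (hv' ⟨φ, mem_axes.2 h⟩)⟩⟩
  choose v hv using hall
  let ℓ : V → Submodule F V := fun b => Submodule.span F ({b, v b} : Set V)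
  have key : ∀ a b : V, a ≠ 0 → b ≠ 0 → a ∉ ℓ b → v b ∈ Submodule.span F ({a, v a, b} : Set V) := by
    intro a b ha hb hab
    by_contra hvb
    obtain ⟨φ, e1, e2⟩ := exists_axis hvb
    obtain ⟨ψ, f1, f2⟩ := exists_axis hab
    have hg := ((hv a ha).2 φ (e2 a (by simp))).2 (e2 (v a) (by simp))
    have hψ := ((hv b hb).2 ψ (f2 b (by simp))).2 (f2 (v b) (by simp))
    have hc := mem_H_conj hg ψ b _ hψ
    have hgb : (slT φ a (e2 a (by simp)) : V ≃ₗ[F] V) b = b := by
      rw [slT_apply, e2 b (by simp), zero_smul, add_zero]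
    simp only [hgb] at hc
    have := ((hv b hb).2 _ _).1 hc
    rw [LinearMap.comp_apply] at this
    change ψ ((((slT φ a _)⁻¹ : GG) : V ≃ₗ[F] V) (v b)) = 0 at this
    rw [slT_inv_apply, map_sub, map_smul, f1, f2 (v b) (by simp), e1, one_smul, zero_sub, neg_eq_zero] at this
    exact one_ne_zero this
  have same : ∀ a b : V, a ≠ 0 → b ∈ ℓ a → b ∉ Submodule.span F ({a} : Set V) → ℓ b = ℓ a := by
    intro a b ha hb hba
    have hb0 : b ≠ 0 := fun h => hba (h ▸ Submodule.zero_mem _)
    have hab : a ∉ Submodule.span F ({b} : Set V) := notMem_pair ha hba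
    have haℓ : a ∈ ℓ b := by
      by_contra h
      have h3 := key a b ha hb0 h
      have hle : Submodule.span F ({a, v a, b} : Set V) ≤ ℓ a := by
        rw [Submodule.span_le]
        rintro z (rfl | rfl | rfl)
        exacts [Submodule.subset_span (by simp), Submodule.subset_span (by simp), hb]
      refine h ?_
      show a ∈ Submodule.span F ({b, v b} : Set V)
      rw [pair_eq hb (hle h3) hb0 (hv b hb0).1]
      exact Submodule.subset_span (by simp)
    have e1 : Submodule.span F ({b, a} : Set V) = ℓ b :=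
      pair_eq (Submodule.subset_span (by simp)) haℓ hb0 hab
    have e2 : Submodule.span F ({b, a} : Set V) = ℓ a :=
      pair_eq hb (Submodule.subset_span (by simp)) hb0 hab
    exact e1.symm.trans e2
  obtain ⟨b, hb⟩ := exists_third hn a (v a)
  have hb0 : b ≠ 0 := fun h => hb (h ▸ Submodule.zero_mem _)
  have hbℓ : a ∉ ℓ b := fun h => by
    have hab : a ∉ Submodule.span F ({b} : Set V) := fun h' => by
      obtain ⟨c, hc⟩ := Submodule.mem_span_singleton.1 h'
      have hc0 : c ≠ 0 := by rintro rfl; exact ha (by rw [← hc, zero_smul])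
      refine hb ((Submodule.smul_mem_iff _ hc0).1 ?_)
      rw [hc]; exact Submodule.subset_span (by simp)
    have := same b a hb0 h hab
    exact hb (show b ∈ ℓ a from this ▸ Submodule.subset_span (by simp))
  obtain ⟨c1, z, hz, he⟩ := Submodule.mem_span_insert.1 (key a b ha hb0 hbℓ)
  obtain ⟨c2, c3, rfl⟩ := Submodule.mem_span_pair.1 hz
  set c := c1 • a + c2 • v a with hc
  have hvb : v b = c + c3 • b := by rw [he, hc]; abel
  have hcb : c ∈ ℓ b := by
    rw [show c = v b - c3 • b by rw [hvb, add_sub_cancel_right]]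
    exact sub_mem (Submodule.subset_span (by simp)) (Submodule.smul_mem _ _ (Submodule.subset_span (by simp)))
  have hcnb : c ∉ Submodule.span F ({b} : Set V) := fun h => (hv b hb0).1 (by
    rw [hvb]; exact add_mem h (Submodule.smul_mem _ _ (Submodule.mem_span_singleton_self b)))
  have hcna : c ∉ Submodule.span F ({a} : Set V) := fun h => by
    obtain ⟨d, hd'⟩ := Submodule.mem_span_singleton.1 h
    have hd0 : d ≠ 0 := by rintro rfl; exact hcnb (by rw [← hd', zero_smul]; exact Submodule.zero_mem _)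
    refine hbℓ ((Submodule.smul_mem_iff _ hd0).1 ?_)
    rw [hd']; exact hcb
  have hca : c ∈ ℓ a := add_mem (Submodule.smul_mem _ _ (Submodule.subset_span (by simp)))
    (Submodule.smul_mem _ _ (Submodule.subset_span (by simp)))
  have := (same a c ha hca hcna).symm.trans (same b c hb0 hcb hcnb)
  exact hb (show b ∈ ℓ a from this ▸ Submodule.subset_span (by simp))

/-- A proper subgroup of small index contains no transvection. -/
theorem no_transv (hn : 3 ≤ Module.finrank F V) {H : Subgroup GG} (hH : H ≠ ⊤)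
    (hd : H.index * (Nat.card F - 1) + 1 < Nat.card F ^ Module.finrank F V) {a : V} (ha : a ≠ 0)
    (φ : Module.Dual F V) (h : φ a = 0) (hm : slT φ a h ∈ H) : φ = 0 := by
  classical
  have : Finite V := Module.finite_of_finite F
  have : Finite (Module.Dual F V) := Module.finite_of_finite F
  have : Finite GG := Finite.of_injective (fun g => ((g : V ≃ₗ[F] V) : V → V))
    fun g h e => slGroup.ext' (congrFun e)
  by_contra hφ
  have haS : a ∈ slCentres H := by
    rcases fixAx_trivial hn hd ha ((1 : GG) : GG ⧸ H) with e | e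
    · have := (mem_fixAx_one (a := a) (H := H) (φ := ⟨φ, mem_axes.2 h⟩)).2 hm
      rw [e, AddSubgroup.mem_bot] at this
      exact absurd (congrArg Subtype.val this) hφ
    · intro ψ hψ
      exact (mem_fixAx_one (φ := ⟨ψ, mem_axes.2 hψ⟩)).1 (e.symm ▸ AddSubgroup.mem_top _)
  let W : Submodule F V :=
    { carrier := slCentres H
      zero_mem' := slCentres_zero H
      smul_mem' := fun c v hv => slCentres_smul hv c
      add_mem' := fun {v w} hv hw => by
        rcases eq_or_ne w 0 with rfl | hw0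
        · simpa using hv
        by_cases hdep : v ∈ Submodule.span F ({w} : Set V)
        · obtain ⟨c, rfl⟩ := Submodule.mem_span_singleton.1 hdep
          rw [show c • w + w = (c + 1) • w by rw [add_smul, one_smul]]
          exact slCentres_smul hw _
        · obtain ⟨ψ, e1, e2⟩ := exists_axis hdep
          have := slCentres_map hv (hw ψ (e2 w rfl))
          rwa [slT_apply, e1, one_smul] at this }
  have hWtop : W ≠ ⊤ := fun e => hH (slGroup_eq_top_of_transvections fun v => by
    show v ∈ W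
    rw [e]; exact Submodule.mem_top)
  have hle : H ≤ slSubStabilizer W := fun g hg x => ⟨fun hx => slCentres_map hx hg, fun hx => by
    have := slCentres_map (show (g : V ≃ₗ[F] V) x ∈ slCentres H from hx) (H.inv_mem hg)
    rwa [slGroup.inv_apply_self] at this⟩
  set M := slSubStabilizer W with hM
  have hdM : M.index * (Nat.card F - 1) + 1 < Nat.card F ^ Module.finrank F V := by
    refine lt_of_le_of_lt (Nat.add_le_add_right (Nat.mul_le_mul_right _ ?_) 1) hd
    exact Nat.le_of_dvd (Nat.pos_of_ne_zero Subgroup.index_ne_zero_of_finite) (Subgroup.index_dvd_of_le hle)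
  by_cases hcodim : Module.finrank F W + 2 ≤ Module.finrank F V
  · obtain ⟨b, hb⟩ : ∃ b, b ∉ W := by
      by_contra h; push Not at h; exact hWtop (Submodule.eq_top_iff'.2 h)
    have hb0 : b ≠ 0 := fun e => hb (e ▸ W.zero_mem)
    have hiff : ∀ ψ : axes F b, ψ ∈ fixAx b ((1 : GG) : GG ⧸ M) → ∀ w ∈ W, ψ.1 w = 0 := by
      intro ψ hψ w hw
      have h2 := ((mem_fixAx_one.1 hψ) w).1 hw
      rw [tv_apply] at h2
      by_contra h3
      exact hb ((Submodule.smul_mem_iff W h3).1 (by simpa using W.sub_mem h2 hw))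
    rcases fixAx_trivial hn hdM hb0 ((1 : GG) : GG ⧸ M) with e | e
    · obtain ⟨z, hz⟩ : ∃ z, z ∉ W ⊔ Submodule.span F ({b} : Set V) := by
        by_contra h; push Not at h
        have h2 := Submodule.finrank_add_le_finrank_add_finrank W (Submodule.span F ({b} : Set V))
        rw [Submodule.eq_top_iff'.2 h, finrank_top, finrank_span_singleton hb0] at h2
        omega
      obtain ⟨ψ, e1, e2⟩ := exists_dual_vanish hz
      have hψb : ψ b = 0 := e2 b (Submodule.mem_sup_right (Submodule.mem_span_singleton_self b))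
      have := (mem_fixAx_one (φ := ⟨ψ, mem_axes.2 hψb⟩)).2
        (slT_mem_slSubStabilizer hψb (Or.inr fun w hw => e2 w (Submodule.mem_sup_left hw)))
      rw [e, AddSubgroup.mem_bot] at this
      have := congrArg Subtype.val this
      simp only at this
      rw [this] at e1
      simp at e1
    · have haW : a ∈ W := haS
      obtain ⟨ψ, e1, e2⟩ := exists_axis (F := F) (s := {b}) (x := a) fun hab => by
        obtain ⟨c, hc⟩ := Submodule.mem_span_singleton.1 hab
        have hc0 : c ≠ 0 := by rintro rfl; exact ha (by rw [← hc, zero_smul])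
        exact hb ((Submodule.smul_mem_iff W hc0).1 (hc ▸ haW))
      have := hiff ⟨ψ, mem_axes.2 (e2 b rfl)⟩ (e ▸ AddSubgroup.mem_top _) a haW
      rw [e1] at this
      exact one_ne_zero this
  · obtain ⟨b, hb⟩ : ∃ b, b ∉ W := by
      by_contra h; push Not at h; exact hWtop (Submodule.eq_top_iff'.2 h)
    obtain ⟨θ, hθb, hθW⟩ := exists_dual_vanish hb
    have hθ : θ ≠ 0 := by rintro rfl; simp at hθb
    have hker : ∀ x, θ x = 0 → x ∈ W := by
      intro x hx
      have hk : LinearMap.ker θ = W := by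
        refine (Submodule.eq_of_le_of_finrank_le (fun w hw => hθW w hw) ?_).symm
        have h1 := LinearMap.finrank_range_add_finrank_ker θ
        have h2 : LinearMap.range θ = ⊤ :=
          LinearMap.range_eq_top.2 fun c => ⟨c • b, by rw [map_smul, hθb, smul_eq_mul, mul_one]⟩
        rw [h2, finrank_top, Module.finrank_self] at h1
        omega
      exact hk ▸ hx
    choose g hg using fun ψ : {ψ : Module.Dual F V // ψ ≠ 0} => trans_dual hn hθ ψ.2
    let f : {ψ : Module.Dual F V // ψ ≠ 0} → GG ⧸ M := fun ψ => (g ψ : GG ⧸ M)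
    have hf : ∀ ψ ψ', f ψ = f ψ' → ∃ c : Fˣ, ψ.1 = (c : F) • ψ'.1 := by
      intro ψ ψ' e
      have hm := QuotientGroup.eq.1 e
      set m := (g ψ)⁻¹ * g ψ' with hm'
      have e1 : ∀ x, ψ.1 ((g ψ' : V ≃ₗ[F] V) x) = θ ((m : V ≃ₗ[F] V) x) := fun x => by
        rw [show g ψ' = g ψ * m by rw [hm', mul_inv_cancel_left], slGroup.mul_apply', hg]
      have e2 : ∀ x, ψ.1 ((g ψ' : V ≃ₗ[F] V) x) = ψ.1 ((g ψ' : V ≃ₗ[F] V) b) * θ x := fun x => by
        have h0 : θ (x - θ x • b) = 0 := by rw [map_sub, map_smul, hθb, smul_eq_mul, mul_one, sub_self]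
        have h1 : θ ((m : V ≃ₗ[F] V) (x - θ x • b)) = 0 := hθW _ ((hm _).1 (hker _ h0))
        rw [← e1, map_sub, map_sub, map_smul, map_smul, sub_eq_zero, smul_eq_mul] at h1
        rw [h1, mul_comm]
      have hc : ψ.1 ((g ψ' : V ≃ₗ[F] V) b) ≠ 0 := fun h0 => ψ.2 (LinearMap.ext fun y => by
        rw [← slGroup.apply_inv_self (g ψ') y, e2, h0, zero_mul]; rfl)
      refine ⟨Units.mk0 _ hc, LinearMap.ext fun y => ?_⟩
      rw [← slGroup.apply_inv_self (g ψ') y, e2, LinearMap.smul_apply, hg]
      rfl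
    choose c hc using hf
    have : Nonempty {ψ : Module.Dual F V // ψ ≠ 0} := ⟨⟨θ, hθ⟩⟩
    let k : {ψ : Module.Dual F V // ψ ≠ 0} → (GG ⧸ M) × Fˣ := fun ψ =>
      (f ψ, c ψ (Function.invFun f (f ψ)) (Function.invFun_eq ⟨ψ, rfl⟩).symm)
    have hk : Function.Injective k := fun ψ ψ' e => by
      have e1 : f ψ = f ψ' := congrArg Prod.fst e
      have e2 := congrArg Prod.snd e
      simp only [k] at e2
      refine Subtype.ext ?_
      rw [hc ψ _ (Function.invFun_eq ⟨ψ, rfl⟩).symm, hc ψ' _ (Function.invFun_eq ⟨ψ', rfl⟩).symm, e2, e1]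
    have hcount := Nat.card_le_card_of_injective k hk
    have := Fintype.ofFinite (Module.Dual F V)
    rw [Nat.card_prod, Nat.card_units, Nat.card_eq_fintype_card (α := {ψ : Module.Dual F V // ψ ≠ 0}),
      Fintype.card_subtype_compl, Fintype.card_subtype_eq, ← Nat.card_eq_fintype_card,
      Module.natCard_eq_pow_finrank (K := F), Subspace.dual_finrank_eq,
      show Nat.card (GG ⧸ M) = M.index from rfl] at hcount
    omega

end Finite

end Cfsg.Lib.Known.MinIndexSL
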