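import Cfsg.Agent.Known.MinIndexSL.Lifts
import Cfsg.Prelude.Def_Classical

/-!
The minimal index of a proper subgroup of the special linear group.
-/

set_option autoImplicit false
set_option linter.unusedSectionVars false
set_option linter.style.haveILetI false

namespace Cfsg.Lib.Known.MinIndexSL

open Cfsg.Lib.Classical

variable {F : Type*} [Field F] {V : Type*} [AddCommGroup V] [Module F V]

local notation "GG" => slGroup F V

/-- A diagonal element scaling a vector and a functional inversely. -/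
theorem exists_scale {θ : Module.Dual F V} {a v u y : V} (ha : θ a = 0) (hv : θ v = 0) (hu : θ u = 0)
    (hy : θ y = 1) (huv : u ∉ Submodule.span F ({a, v} : Set V)) {c : F} (hc : c ≠ 0) :
    ∃ g : GG, (g : V ≃ₗ[F] V) a = a ∧ (g : V ≃ₗ[F] V) v = v ∧ (g : V ≃ₗ[F] V) u = c • u ∧
      ∀ x, θ ((g : V ≃ₗ[F] V) x) = c⁻¹ * θ x := by
  have h : u ∉ Submodule.span F ({a, v, y} : Set V) := fun h => by
    obtain ⟨c1, z, hz, rfl⟩ := Submodule.mem_span_insert.1 h
    obtain ⟨c2, c3, rfl⟩ := Submodule.mem_span_pair.1 hz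
    simp [ha, hv, hy] at hu
    exact huv (Submodule.mem_span_pair.2 ⟨c1, c2, by rw [hu, zero_smul, add_zero]⟩)
  obtain ⟨α, au, hα⟩ := exists_axis h
  have αa := hα a (by simp)
  have αv := hα v (by simp)
  have αy := hα y (by simp)
  refine ⟨slT α ((-c⁻¹) • y) (by simp [αy]) * slT θ ((c - 1) • u) (by simp [hu]) * slT α y αy *
    slT θ (((1 - c) / c) • u) (by simp [hu]), ?_, ?_, ?_, fun x => ?_⟩ <;>
  simp only [slGroup.mul_apply', slT_apply, map_add, map_smul, ha, hv, hu, hy, au, αa, αv, αy, smul_eq_mul,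
    zero_smul, add_zero, zero_add, mul_one, one_smul]
  · match_scalars <;> field_simp <;> ring
  · field_simp
    ring

section Finite

variable [Finite F] [FiniteDimensional F V]

/-- The index of a proper subgroup is at least the number of points. -/
theorem index_ge (hn : 3 ≤ Module.finrank F V)
    (hexc : ¬ (Module.finrank F V = 4 ∧ Nat.card F = 2)) {H : Subgroup GG} (hH : H ≠ ⊤) :
    Nat.card F ^ Module.finrank F V ≤ H.index * (Nat.card F - 1) + 1 := by
  classical
  by_contra hd
  push Not at hd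
  have : Finite V := Module.finite_of_finite F
  have : Finite (Module.Dual F V) := Module.finite_of_finite F
  have : Nontrivial V := Module.nontrivial_of_finrank_pos (R := F) (by omega)
  obtain ⟨a, ha⟩ := exists_ne (0 : V)
  set q := Nat.card F with hq
  set n := Module.finrank F V with hn'
  have hq2 : 2 ≤ q := Finite.one_lt_card
  have hbot : ∀ x : GG ⧸ H, fixAx a x = ⊥ := by
    intro x
    induction x using QuotientGroup.induction_on with
    | _ g =>
      refine eq_bot_iff.2 fun φ hφ => AddSubgroup.mem_bot.2 (Subtype.ext ?_)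
      rw [mem_fixAx, MulAction.Quotient.smul_mk, QuotientGroup.eq, smul_eq_mul] at hφ
      have h2 : g⁻¹ * tv a φ * g ∈ H := by
        have h3 := H.inv_mem hφ
        simpa [mul_assoc] using h3
      have e := slT_conj g⁻¹ φ.1 a (mem_axes.1 φ.2)
      rw [show g⁻¹ * tv a φ * g = g⁻¹ * slT φ.1 a (mem_axes.1 φ.2) * (g⁻¹)⁻¹ by rw [inv_inv]; rfl, e] at h2
      have ha' : ((g⁻¹ : GG) : V ≃ₗ[F] V) a ≠ 0 := by simpa using ha
      have h4 := no_transv hn hH hd ha' _ _ h2
      refine LinearMap.ext fun z => ?_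
      have h5 := LinearMap.congr_fun h4 (((g⁻¹ : GG) : V ≃ₗ[F] V) z)
      change φ.1 ((((g⁻¹)⁻¹ : GG) : V ≃ₗ[F] V) (((g⁻¹ : GG) : V ≃ₗ[F] V) z)) = 0 at h5
      rwa [slGroup.inv_apply_self] at h5
  have hA : Nat.card (axes F a) * q = q ^ n := by
    rw [axes_card_eq ha, Module.natCard_eq_pow_finrank (K := F)]
  have hlift : ∀ g : GG, ∃ φ : axes F a, tv a φ * g ∈ H := by
    by_contra h
    push Not at h
    obtain ⟨g, hg⟩ := h
    have hne : ∀ φ : axes F a, tv a φ • ((g : GG) : GG ⧸ H) ≠ ((1 : GG) : GG ⧸ H) := fun φ e => by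
      rw [MulAction.Quotient.smul_mk, QuotientGroup.eq, smul_eq_mul, mul_one] at e
      exact hg φ (H.inv_mem_iff.1 e)
    have hs := sum_index_le a (fun b : Bool => if b then ((g : GG) : GG ⧸ H) else ((1 : GG) : GG ⧸ H)) (by
      rintro (_ | _) (_ | _) hij φ e <;> simp only [Bool.false_eq_true, if_false, if_true] at e
      · exact hij rfl
      · refine hne (-φ) ?_
        rw [tv_neg, inv_smul_eq_iff]; exact e.symm
      · exact hne φ e
      · exact hij rfl)
    simp only [Fintype.sum_bool, hbot, AddSubgroup.index_bot] at hs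
    have h1 : 2 * Nat.card (axes F a) * (q - 1) ≤ H.index * (q - 1) := Nat.mul_le_mul_right _ (by omega)
    have h2 : Nat.card (axes F a) * (q - 1) + Nat.card (axes F a) = q ^ n := by
      rw [← hA, ← Nat.mul_succ, show (q - 1).succ = q by omega]
    have h3 : Nat.card (axes F a) ≤ Nat.card (axes F a) * (q - 1) := Nat.le_mul_of_pos_right _ (by omega)
    rw [mul_assoc] at h1
    omega
  have huniq : ∀ (g : GG) (φ ψ : axes F a), tv a φ * g ∈ H → tv a ψ * g ∈ H → φ = ψ := by
    intro g φ ψ h1 h2
    have h3 := H.mul_mem h1 (H.inv_mem h2)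
    rw [show tv a φ * g * (tv a ψ * g)⁻¹ = tv a (φ + -ψ) by rw [tv_add, tv_neg]; group] at h3
    have h4 := mem_fixAx_one.2 h3
    rw [hbot, AddSubgroup.mem_bot] at h4
    exact Subtype.ext (sub_eq_zero.1 (by simpa [sub_eq_add_neg] using congrArg Subtype.val h4))
  have hcomp : ∀ (g h : GG) (hg : (g : V ≃ₗ[F] V) a = a) (α β : axes F a),
      tv a α * g ∈ H → tv a β * h ∈ H → tv a (α + move a g hg β) * (g * h) ∈ H := by
    intro g h hg α β h1 h2
    rw [show tv a (α + move a g hg β) * (g * h) = tv a α * g * (tv a β * h) by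
      rw [tv_add, ← tv_conj]; group]
    exact H.mul_mem h1 h2
  obtain ⟨u0, hu0⟩ : ∃ u, u ∉ Submodule.span F ({a} : Set V) := by
    obtain ⟨u, hu⟩ := exists_third hn a a
    exact ⟨u, fun h => hu (Submodule.span_mono (by simp) h)⟩
  obtain ⟨y, hy⟩ := exists_third hn a u0
  obtain ⟨θ, θy, hθ⟩ := exists_axis hy
  have θa : θ a = 0 := hθ a (by simp)
  have θu0 : θ u0 = 0 := hθ u0 (by simp)
  have hex : ∀ w, ∃ φ : axes F a, ∀ h : θ w = 0, tv a φ * slT θ w h ∈ H := fun w => by
    by_cases h : θ w = 0
    · obtain ⟨φ, hφ⟩ := hlift (slT θ w h)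
      exact ⟨φ, fun _ => hφ⟩
    · exact ⟨0, fun h' => absurd h' h⟩
  choose Φ hΦ using hex
  have fixA : ∀ w (h : θ w = 0), (slT θ w h : V ≃ₗ[F] V) a = a := fun w h => by
    rw [slT_apply, θa, zero_smul, add_zero]
  have hmul : ∀ w w' (h : θ w = 0) (h' : θ w' = 0) x,
      (Φ (w + w')).1 x = (Φ w).1 x + ((Φ w').1 x - θ x * (Φ w').1 w) := by
    intro w w' h h' x
    have h3 := hcomp _ _ (fixA w h) _ _ (hΦ w h) (hΦ w' h')
    rw [show slT θ w h * slT θ w' h' = slT θ (w + w') (by rw [map_add, h, h', add_zero]) from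
      slGroup.ext' fun x => by
        simp only [slGroup.mul_apply', slT_apply, map_add, map_smul, h']
        module] at h3
    rw [huniq _ _ _ (hΦ (w + w') _) h3]
    show (Φ w).1 x + (Φ w').1 ((((slT θ w h)⁻¹ : GG) : V ≃ₗ[F] V) x) = _
    rw [slT_inv_apply, map_sub, map_smul, smul_eq_mul]
  have hsymm : ∀ w w', θ w = 0 → θ w' = 0 → (Φ w').1 w = (Φ w).1 w' := by
    intro w w' h h'
    have e1 := hmul w w' h h' y
    have e2 := hmul w' w h' h y
    rw [add_comm w' w] at e2
    rw [θy, one_mul] at e1 e2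
    linear_combination e1 - e2
  have hadd : ∀ w w' z, θ w = 0 → θ w' = 0 → θ z = 0 → (Φ (w + w')).1 z = (Φ w).1 z + (Φ w').1 z := by
    intro w w' z h h' hz
    rw [hmul w w' h h' z, hz, zero_mul, sub_zero]
  have hinv : ∀ (g : GG) (k : F), (g : V ≃ₗ[F] V) a = a → k ≠ 0 → (∀ x, θ ((g : V ≃ₗ[F] V) x) = k * θ x) →
      ∀ w z, θ w = 0 → θ z = 0 →
        (Φ (k⁻¹ • (g : V ≃ₗ[F] V) w)).1 ((g : V ≃ₗ[F] V) z) = (Φ w).1 z := by
    intro g k hga hk hgθ w z hw hz
    obtain ⟨α, hα⟩ := hlift g
    have hw' : θ (k⁻¹ • (g : V ≃ₗ[F] V) w) = 0 := by rw [map_smul, hgθ, hw, mul_zero, smul_zero]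
    have h1 := hcomp g _ hga _ _ hα (hΦ w hw)
    have h2 := hcomp _ g (fixA _ hw') _ _ (hΦ _ hw') hα
    rw [show slT θ _ hw' * g = g * slT θ w hw from slGroup.ext' fun x => by
      simp only [slGroup.mul_apply', slT_apply, map_add, map_smul, hgθ, smul_smul]
      congr 2
      rw [mul_comm k, mul_assoc, mul_inv_cancel₀ hk, mul_one]] at h2
    have e := LinearMap.congr_fun (congrArg Subtype.val (huniq _ _ _ h1 h2)) ((g : V ≃ₗ[F] V) z)
    change α.1 _ + (Φ w).1 (((g⁻¹ : GG) : V ≃ₗ[F] V) _) =
      (Φ (k⁻¹ • (g : V ≃ₗ[F] V) w)).1 _ + α.1 ((((slT θ _ hw')⁻¹ : GG) : V ≃ₗ[F] V) _) at e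
    rw [slGroup.inv_apply_self, slT_inv_apply, hgθ, hz, mul_zero, zero_smul, sub_zero] at e
    linear_combination -e
  have hΦa : ∀ w, (Φ w).1 a = 0 := fun w => mem_axes.1 (Φ w).2
  have halt : ∀ u, θ u = 0 → (Φ u).1 u = 0 := by
    intro u hu
    by_cases hua : u ∈ Submodule.span F ({a} : Set V)
    · obtain ⟨e, rfl⟩ := Submodule.mem_span_singleton.1 hua
      rw [map_smul, hΦa, smul_zero]
    by_cases h2 : (2 : F) = 0
    · have e := hmul u u hu hu y
      rw [θy, one_mul] at e
      have hz : Φ (u + u) = 0 := by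
        have hu2 : u + u = 0 := by rw [← two_smul F u, h2, zero_smul]
        refine huniq (slT θ (u + u) (by rw [map_add, hu, add_zero])) _ _ (hΦ _ _) ?_
        rw [tv_zero, one_mul]
        convert H.one_mem
        exact slGroup.ext' fun x => by rw [slT_apply, hu2, smul_zero, add_zero]; rfl
      rw [hz] at e
      simp only [ZeroMemClass.coe_zero, LinearMap.zero_apply] at e
      linear_combination e + (Φ u).1 y * h2
    · obtain ⟨g, ga, -, gu, gθ⟩ := exists_scale θa θa hu θy (fun h => hua (by simpa using h))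
        (neg_ne_zero.2 (one_ne_zero : (1 : F) ≠ 0))
      have e := hinv g _ ga (inv_ne_zero (neg_ne_zero.2 one_ne_zero)) gθ u u hu hu
      rw [gu, smul_smul, inv_inv, neg_mul_neg, one_mul, one_smul, map_smul, smul_eq_mul, neg_one_mul] at e
      have e' : (2 : F) * (Φ u).1 u = 0 := by linear_combination -e
      exact (mul_eq_zero.1 e').resolve_left h2
  have hB : ∀ u v, θ u = 0 → θ v = 0 → (Φ u).1 v = 0 := by
    intro u v hu hv
    have hskew : (2 : F) * (Φ u).1 v = 0 := by
      have huv : θ (u + v) = 0 := by rw [map_add, hu, hv, add_zero]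
      have e := halt (u + v) huv
      rw [hadd u v _ hu hv huv, map_add, map_add, halt u hu, halt v hv, hsymm u v hu hv] at e
      linear_combination e
    by_cases h2 : (2 : F) = 0
    swap
    · exact (mul_eq_zero.1 hskew).resolve_left h2
    by_cases hva : v ∈ Submodule.span F ({a} : Set V)
    · obtain ⟨e, rfl⟩ := Submodule.mem_span_singleton.1 hva
      rw [map_smul, hΦa, smul_zero]
    by_cases huv : u ∈ Submodule.span F ({a, v} : Set V)
    · obtain ⟨e, f, rfl⟩ := Submodule.mem_span_pair.1 huv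
      rw [← hsymm _ v hu hv, map_add, map_smul, map_smul, hΦa, halt v hv, smul_zero, smul_zero, add_zero]
    by_cases hcF : ∃ c : F, c ≠ 0 ∧ c ≠ 1
    · obtain ⟨c, hc0, hc1⟩ := hcF
      obtain ⟨g, ga, gv, gu, gθ⟩ := exists_scale θa hv hu θy huv hc0
      have e := hinv g _ ga (inv_ne_zero hc0) gθ u v hu hv
      have hcu : θ ((c⁻¹)⁻¹ • c • u) = 0 := by rw [map_smul, map_smul, hu, smul_zero, smul_zero]
      rw [gu, gv, ← hsymm _ v hcu hv, map_smul, map_smul, hsymm u v hu hv, inv_inv, smul_eq_mul, smul_eq_mul] at e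
      have e' : (c - 1) * (c - 1) * (Φ u).1 v = 0 := by
        linear_combination e + (1 - c) * (Φ u).1 v * h2
      simpa [sub_eq_zero, hc1] using e'
    push Not at hcF
    have hq2' : q = 2 := by
      refine le_antisymm ?_ hq2
      rw [hq]
      have hs : Function.Surjective (fun b : Bool => if b then (1 : F) else 0) := fun c => by
        rcases eq_or_ne c 0 with rfl | h
        · exact ⟨false, rfl⟩
        · exact ⟨true, (hcF c h).symm⟩
      simpa using Nat.card_le_card_of_surjective _ hs
    have hk : Module.finrank F (LinearMap.ker θ) + 1 = n := by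
      have h1 := LinearMap.finrank_range_add_finrank_ker θ
      have h3 : LinearMap.range θ = ⊤ :=
        LinearMap.range_eq_top.2 fun c => ⟨c • y, by rw [map_smul, θy, smul_eq_mul, mul_one]⟩
      rw [h3, finrank_top, Module.finrank_self] at h1
      omega
    rcases eq_or_ne n 3 with hn3 | hn3
    · refine absurd ?_ huv
      have hle : Submodule.span F ({a, v} : Set V) ≤ LinearMap.ker θ := by
        rw [Submodule.span_le]
        rintro z (rfl | rfl)
        exacts [θa, hv]
      have h4 : Submodule.span F ({a} : Set V) < Submodule.span F ({a, v} : Set V) :=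
        lt_of_le_of_ne (Submodule.span_mono (by simp)) fun h => hva (h ▸ Submodule.subset_span (by simp))
      have h5 := Submodule.finrank_lt_finrank_of_lt h4
      rw [finrank_span_singleton ha] at h5
      rw [Submodule.eq_of_le_of_finrank_le hle (by omega)]
      exact hu
    · have hn5 : 5 ≤ n := by
        have : n ≠ 4 := fun h => hexc ⟨h, hq2'⟩
        omega
      obtain ⟨u', hu', hu'n⟩ : ∃ u' ∈ LinearMap.ker θ, u' ∉ Submodule.span F ({a, v, u} : Set V) := by
        by_contra h
        push Not at h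
        have h1 := Submodule.finrank_mono (show LinearMap.ker θ ≤ _ from h)
        have h3 := finrank_span_finset_le_card (R := F) ({a, v, u} : Finset V)
        rw [Set.finrank, Finset.coe_insert, Finset.coe_pair] at h3
        have h4 := Finset.card_le_three (a := a) (b := v) (c := u)
        omega
      obtain ⟨η, e1, e2⟩ := exists_axis hu'n
      have hηu : η u = 0 := e2 u (by simp)
      have e := hinv (slT η u hηu) 1 (by rw [slT_apply, e2 a (by simp), zero_smul, add_zero]) one_ne_zero
        (fun x => by rw [slT_apply, map_add, map_smul, hu, smul_zero, add_zero, one_mul]) u' v hu' hv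
      rw [slT_apply, slT_apply, e1, e2 v (by simp), inv_one, one_smul, one_smul, zero_smul, add_zero,
        hadd u' u v hu' hu hv] at e
      linear_combination e
  -- the lift of a transvection is a transvection
  set β := (Φ u0).1 y with hβ
  have hform : ∀ x, (Φ u0).1 x = θ x * β := fun x => by
    have h0 : θ (x - θ x • y) = 0 := by rw [map_sub, map_smul, θy, smul_eq_mul, mul_one, sub_self]
    have := hB u0 _ θu0 h0
    rw [map_sub, map_smul, smul_eq_mul, sub_eq_zero] at this
    exact this
  have hw0 : θ (u0 + β • a) = 0 := by rw [map_add, map_smul, θu0, θa, smul_zero, add_zero]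
  have hmem : slT θ (u0 + β • a) hw0 ∈ H := by
    convert hΦ u0 θu0 using 1
    refine slGroup.ext' fun x => ?_
    rw [slGroup.mul_apply', tv_apply, slT_apply, slT_apply, hform, map_add, map_smul, θu0, smul_zero, add_zero]
    module
  have hne : u0 + β • a ≠ 0 := fun h => hu0 (Submodule.mem_span_singleton.2 ⟨-β, by
    rw [neg_smul, eq_comm, eq_neg_iff_add_eq_zero]; exact h⟩)
  have := no_transv hn hH hd hne θ hw0 hmem
  rw [this] at θy
  simp at θy

/-- Central elements keep every line. -/
theorem central_mem_stab (hn : 3 ≤ Module.finrank F V) {a : V} (ha : a ≠ 0) {g : GG} (hg : ∀ h, g * h = h * g) :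
    g ∈ slSubStabilizer (Submodule.span F ({a} : Set V)) := by
  obtain ⟨u, hu⟩ := exists_third hn a a
  obtain ⟨φ, h1, h2⟩ := exists_axis hu
  have e := congrArg (fun h : GG => (h : V ≃ₗ[F] V) u) (hg (slT φ a (h2 a (by simp))))
  simp only [slGroup.mul_apply', slT_apply, h1, one_smul, map_add, add_right_inj] at e
  intro x
  constructor
  · intro hx
    obtain ⟨c, rfl⟩ := Submodule.mem_span_singleton.1 hx
    exact Submodule.mem_span_singleton.2 ⟨c * φ ((g : V ≃ₗ[F] V) u), by rw [map_smul, e, smul_smul]⟩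
  · intro hx
    obtain ⟨c, hc⟩ := Submodule.mem_span_singleton.1 hx
    have hne : φ ((g : V ≃ₗ[F] V) u) ≠ 0 := fun h => ha ((g : V ≃ₗ[F] V).injective (by
      rw [e, h, zero_smul, map_zero]))
    refine Submodule.mem_span_singleton.2 ⟨c * (φ ((g : V ≃ₗ[F] V) u))⁻¹, (g : V ≃ₗ[F] V).injective ?_⟩
    rw [map_smul, e, smul_smul, mul_assoc, inv_mul_cancel₀ hne, mul_one, hc]

/-- The stabiliser of a point has index the number of points. -/
theorem index_stab (hn : 3 ≤ Module.finrank F V) {a : V} (ha : a ≠ 0) :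
    (slSubStabilizer (Submodule.span F ({a} : Set V))).index * (Nat.card F - 1) =
      Nat.card F ^ Module.finrank F V - 1 := by
  have : Finite V := Module.finite_of_finite F
  rw [← Module.natCard_eq_pow_finrank (K := F) (V := V), Projectivization.card F V]
  congr 1
  rw [Subgroup.index]
  have hne : ∀ g : GG, (g : V ≃ₗ[F] V) a ≠ 0 := fun g => by simpa using ha
  have key : ∀ g h : GG, (g⁻¹ * h ∈ slSubStabilizer (Submodule.span F ({a} : Set V))) ↔
      Projectivization.mk F _ (hne g) = Projectivization.mk F _ (hne h) := by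
    intro g h
    rw [Projectivization.mk_eq_mk_iff']
    constructor
    · intro hm
      obtain ⟨c, hc⟩ := Submodule.mem_span_singleton.1 ((hm a).1 (Submodule.mem_span_singleton_self a))
      rw [slGroup.mul_apply'] at hc
      have e := congrArg (g : V ≃ₗ[F] V) hc
      rw [map_smul, slGroup.apply_inv_self] at e
      have hc0 : c ≠ 0 := fun h0 => hne h (by rw [← e, h0, zero_smul])
      exact ⟨c⁻¹, by rw [← e, smul_smul, inv_mul_cancel₀ hc0, one_smul]⟩
    · rintro ⟨c, hc⟩
      have hc0 : c ≠ 0 := fun h0 => hne g (by rw [← hc, h0, zero_smul])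
      have e : ((g⁻¹ * h : GG) : V ≃ₗ[F] V) a = c⁻¹ • a := by
        apply (g : V ≃ₗ[F] V).injective
        rw [slGroup.mul_apply', slGroup.apply_inv_self, map_smul, ← hc, smul_smul, inv_mul_cancel₀ hc0, one_smul]
      intro x
      constructor
      · intro hx
        obtain ⟨d, rfl⟩ := Submodule.mem_span_singleton.1 hx
        exact Submodule.mem_span_singleton.2 ⟨d * c⁻¹, by rw [map_smul, e, smul_smul]⟩
      · intro hx
        obtain ⟨d, hd⟩ := Submodule.mem_span_singleton.1 hx
        refine Submodule.mem_span_singleton.2 ⟨d * c, ((g⁻¹ * h : GG) : V ≃ₗ[F] V).injective ?_⟩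
        rw [map_smul, e, smul_smul, mul_assoc, mul_inv_cancel₀ hc0, mul_one, hd]
  let f : GG ⧸ slSubStabilizer (Submodule.span F ({a} : Set V)) → Projectivization F V :=
    Quotient.lift (fun g : GG => Projectivization.mk F _ (hne g))
      fun g h e => (key g h).1 (QuotientGroup.leftRel_apply.1 e)
  refine Nat.card_congr (Equiv.ofBijective f ⟨?_, ?_⟩)
  · intro x y e
    induction x using QuotientGroup.induction_on with
    | _ g =>
      induction y using QuotientGroup.induction_on with
      | _ h => exact QuotientGroup.eq.2 ((key g h).2 e)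
  · intro p
    induction p using Projectivization.ind with
    | h v hv =>
      obtain ⟨g, hg⟩ := trans_vec hn ha hv
      exact ⟨(g : GG ⧸ _), by simp [f, hg]⟩

end Finite

theorem slOfBasis_bijective {ι : Type*} [Fintype ι] [DecidableEq ι] (b : Module.Basis ι F V) :
    Function.Bijective (slOfBasis b) := by
  refine ⟨fun M N e => Subtype.ext ((Matrix.toLin b b).injective (LinearMap.ext fun x => ?_)), fun g => ?_⟩
  · exact congrArg (fun h : GG => (h : V ≃ₗ[F] V) x) e
  · refine ⟨⟨LinearMap.toMatrix b b (g : V ≃ₗ[F] V).toLinearMap, ?_⟩, slGroup.ext' fun x => ?_⟩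
    · rw [LinearMap.det_toMatrix]
      have := congrArg Units.val (MonoidHom.mem_ker.mp g.2)
      rwa [LinearEquiv.coe_det, Units.val_one] at this
    · change Matrix.toLin b b (LinearMap.toMatrix b b _) x = _
      rw [Matrix.toLin_toMatrix]
      rfl

/-- The minimal index of a proper subgroup of the projective special linear group. -/
theorem min_index_psl {K : Type*} [Field K] [Fintype K] {q : ℕ} (hF : Fintype.card K = q) (n : ℕ) (hn : 3 ≤ n)
    (hexc : ¬ (n = 4 ∧ q = 2)) :
    (∀ H : Subgroup (Matrix.ProjectiveSpecialLinearGroup (Fin n) K), H ≠ ⊤ → (q ^ n - 1) / (q - 1) ≤ H.index) ∧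
      (∃ H : Subgroup (Matrix.ProjectiveSpecialLinearGroup (Fin n) K), H.index = (q ^ n - 1) / (q - 1)) := by
  let e : Matrix.SpecialLinearGroup (Fin n) K ≃* slGroup K (Fin n → K) :=
    MulEquiv.ofBijective (slOfBasis (Pi.basisFun K (Fin n))) (slOfBasis_bijective _)
  have hfr : Module.finrank K (Fin n → K) = n := Module.finrank_fin_fun K
  have hq : Nat.card K = q := by rw [Nat.card_eq_fintype_card, hF]
  have hq1 : 1 < q := hF ▸ Fintype.one_lt_card
  let π := QuotientGroup.mk' (Subgroup.center (Matrix.SpecialLinearGroup (Fin n) K))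
  have hπ : Function.Surjective π := QuotientGroup.mk'_surjective _
  refine ⟨fun H hH => ?_, ?_⟩
  · have h1 : ((H.comap π).map e.toMonoidHom).index = H.index := by
      rw [MulEquiv.toMonoidHom_eq_coe, Subgroup.index_map_equiv, Subgroup.index_comap_of_surjective H hπ]
    have h2 : (H.comap π).map e.toMonoidHom ≠ ⊤ := fun h => hH (by
      rw [← Subgroup.index_eq_one, ← h1, h, Subgroup.index_top])
    have h3 := index_ge (F := K) (by rw [hfr]; exact hn) (by rw [hfr, hq]; exact hexc) h2
    rw [h1, hfr, hq] at h3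
    exact Nat.div_le_of_le_mul (by rw [mul_comm]; omega)
  · have hne : (Pi.basisFun K (Fin n)) ⟨0, by omega⟩ ≠ 0 := Module.Basis.ne_zero _ _
    set M := slSubStabilizer (Submodule.span K ({(Pi.basisFun K (Fin n)) ⟨0, by omega⟩} : Set (Fin n → K))) with hM
    refine ⟨(M.comap e.toMonoidHom).map π, ?_⟩
    rw [Subgroup.index_map_eq _ hπ (by
      intro z hz
      rw [QuotientGroup.ker_mk'] at hz
      rw [Subgroup.mem_comap]
      refine central_mem_stab (by rw [hfr]; exact hn) hne fun h => ?_
      obtain ⟨h', rfl⟩ := e.surjective h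
      change e z * e h' = e h' * e z
      rw [← map_mul, ← map_mul, Subgroup.mem_center_iff.1 hz h']),
      Subgroup.index_comap_of_surjective (f := e.toMonoidHom) M e.surjective]
    have h4 := index_stab (F := K) (by rw [hfr]; exact hn) hne
    rw [← hM, hfr, hq] at h4
    rw [← h4, Nat.mul_div_cancel _ (by omega)]

end Cfsg.Lib.Known.MinIndexSL
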